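import Mathlib
import Cfsg.Agent.G2T.FWDefs
import Cfsg.Agent.G2T.Model
import Cfsg.Agent.G2T.QF
import Cfsg.Agent.Blk.ZStar
import Cfsg.Agent.GT.TransferCocycle

/-! Sylow 2-subgroups and involutions in the Fong-Wong setting. -/

set_option autoImplicit false

namespace Cfsg.Agent.G2T

open Cfsg.Agent.Loc.Mss Cfsg.Agent.GW Cfsg.Agent.Inv.SLF Subgroup
open scoped MatrixGroups

variable {G : Type*} [Group G] [Finite G] {F₁ F₂ : Type*} [Field F₁] [Fintype F₁] [Field F₂]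
  [Fintype F₂] {L₁ L₂ : Subgroup G} {z w : G}

namespace FW

variable {S : Subgroup G} {y₁ s₁ r₁ y₂ s₂ r₂ g x : G}

omit [Finite G] in
theorem mul_mem_iff (h : FW F₁ F₂ L₁ L₂ z) (hg : g ∈ Cen z) (hx : x ∈ Cen z) :
    g * x ∈ L₁ ⊔ L₂ ↔ (g ∈ L₁ ⊔ L₂ ↔ x ∈ L₁ ⊔ L₂) :=
  mul_mem_iff_of_index_two (H := (L₁ ⊔ L₂).subgroupOf (Cen z)) h.idx (a := ⟨g, hg⟩) (b := ⟨x, hx⟩)

theorem exists_qf (h : FW F₁ F₂ L₁ L₂ z) (hS : Syl 2 S (Cen z)) : ∃ y s r, QF L₁ S z y s r :=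
  have : Fact (Nat.Prime 2) := ⟨Nat.prime_two⟩
  exists_QF h.cp.d₁ hS.pg hS.le (hS.le.trans h.n₁) (hS.inf h.le₁ (hS.le.trans h.n₁))

theorem exists_mul (h : FW F₁ F₂ L₁ L₂ z) (hS : Syl 2 S (Cen z)) (hg : g ∈ S)
    (hL : g ∈ L₁ ⊔ L₂) : ∃ a ∈ S ⊓ L₁, ∃ b ∈ S ⊓ L₂, g = a * b := by
  have : Fact (Nat.Prime 2) := ⟨Nat.prime_two⟩
  obtain ⟨a, ha, b, hb, rfl⟩ := exists_mul_of_mem_sup h.comm hL
  obtain ⟨k, hk⟩ := pg_iff.1 hS.pg _ hg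
  rw [(show Commute a b from h.comm a ha b hb).mul_pow] at hk
  have h1 : a ∈ S := ((hS.inf h.le₁ (hS.le.trans h.n₁)).le_of_norm' (pg_zpowers (k := k + 1) (by
    rw [pow_succ, pow_mul, pow_two]
    rcases h.cp.inter _ (pow_mem ha _) (by
      rw [eq_inv_of_mul_eq_one_left hk]; exact inv_mem (pow_mem hb _)) with e | e <;> rw [e]
    exacts [one_mul 1, h.cp.jj])) (zpowers_le.2 ha) (zpowers_le.2 (mem_norm_of_cj_le
      (cj_le_iff.2 fun c hc => mem_inf.2 ⟨by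
        have := h.cp.conj_left hc.2 ha hb
        rw [← this]; exact S.mul_mem (S.mul_mem hg hc.1) (S.inv_mem hg),
        L₁.mul_mem (L₁.mul_mem ha hc.2) (L₁.inv_mem ha)⟩))) (mem_zpowers a)).1
  exact ⟨a, ⟨h1, ha⟩, b, ⟨(mul_mem_cancel_left h1).1 hg, hb⟩, rfl⟩

theorem exists_fused (h : FW F₁ F₂ L₁ L₂ z) : ∃ x ∈ L₁ ⊔ L₂, IsConj z x ∧ x ≠ z := by
  have : Fact (Nat.Prime 2) := ⟨Nat.prime_two⟩
  by_contra! bad
  have k1 : ∀ x, IsConj z x → x ≠ z → ∀ a, a * a = z → x * a ≠ a * x := fun x hx x1 a ha e => by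
    obtain ⟨g, hg⟩ := isConj_iff.1 hx.symm
    have h1 : g * a * g⁻¹ ∈ Cen z := mem_Cen.2 (hg ▸ (show Commute x a from e).conj g)
    have h2 := (h.mul_mem_iff h1 h1).2 Iff.rfl
    rw [conj_mul, ha] at h2
    exact x1 ((MulAut.conj g).injective (hg.trans (bad _ h2 (isConj_iff.2 ⟨g, rfl⟩)).symm))
  have k2 : ∀ x, IsConj z x → x ≠ z → Commute z x → ∃ y₁ ∈ L₁, ∃ y₂ ∈ L₂, y₁ * y₁ = z ∧
      y₂ * y₂ = z ∧ IsConj z (z * x) ∧ Commute x (y₁ * y₂) ∧ IsConj z (y₁ * y₂ * x) :=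
    fun x hx x1 hc => by
    obtain ⟨g, hg⟩ := isConj_iff.1 hx
    obtain ⟨S, h1, hS⟩ := Syl.exists_ge (pg_zpowers (x := x) (k := 1) (by
      rw [← hg, conj_pow, pow_one, pow_two, h.cp.jj]; simp)) (zpowers_le.2 (mem_Cen.2 hc))
    obtain ⟨y₁, s₁, r₁, q₁⟩ := h.exists_qf hS
    obtain ⟨y₂, s₂, r₂, q₂⟩ := h.symm.exists_qf hS
    have xS := h1 (mem_zpowers x)
    obtain ⟨l, -, e⟩ := q₁.semi xS (fun a _ => k1 x hx x1 a) q₁.z_mem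
    obtain ⟨l₁, m₁, e₁⟩ := q₁.semi xS (fun a _ => k1 x hx x1 a) q₁.y_mem
    obtain ⟨l₂, m₂, e₂⟩ := q₂.semi xS (fun a _ => k1 x hx x1 a) q₂.y_mem
    have i₁ := (q₁.yn x xS).resolve_left fun e => k1 x hx x1 _ q₁.yy (mul_inv_eq_iff_eq_mul.1 e)
    have i₂ := (q₂.yn x xS).resolve_left fun e => k1 x hx x1 _ q₂.yy (mul_inv_eq_iff_eq_mul.1 e)
    refine ⟨y₁, q₁.yL, y₂, q₂.yL, q₁.yy, q₂.yy, hx.trans (isConj_iff.2 ⟨l, e⟩), ?_,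
      hx.trans (isConj_iff.2 ⟨l₂ * l₁, ?_⟩)⟩
    · rw [commute_iff_eq, ← mul_inv_eq_iff_eq_mul, ← conj_mul, i₁, i₂, q₁.yi, q₂.yi,
        ← q₂.d.central _ q₂.yL |>.symm, mul_assoc, ← mul_assoc z, q₁.zz, one_mul]
    · rw [show l₂ * l₁ * x * (l₂ * l₁)⁻¹ = l₂ * (l₁ * x * l₁⁻¹) * l₂⁻¹ by group, e₁, ← mul_assoc,
        ← h.comm _ q₁.yL _ m₂, mul_assoc y₁, mul_assoc y₁, e₂, mul_assoc]
  obtain ⟨x, hx, x1, hc⟩ : ∃ x, IsConj z x ∧ x ≠ z ∧ Commute z x := by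
    by_contra! e
    refine h.ne (eq_top_iff.2 fun g _ => ?_)
    obtain ⟨k, hk, c, hc, rfl⟩ := IsIsolatedInvolution.exists_oddCore_mul_commute
      (⟨h.ord, fun g hg => by_contra fun h1 => e _ (isConj_iff.2 ⟨g, rfl⟩) h1 hg⟩ :
        IsIsolatedInvolution z) g
    exact mul_mem (mem_sup_right hk) (mem_sup_left (mem_Cen.2 hc.symm))
  obtain ⟨y₁, m₁, y₂, m₂, e₁, e₂, -, h1, h2⟩ := k2 x hx x1 hc
  obtain ⟨g, hg⟩ := isConj_iff.1 hx.symm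
  have h3 := h.cp.mul_four_ne m₁ m₂ e₁
  have h4 : g * (y₁ * y₂ * x) * g⁻¹ = g * (y₁ * y₂) * g⁻¹ * z := by rw [← hg, conj_mul]
  have h5 : Commute z (g * (y₁ * y₂) * g⁻¹) := hg ▸ h1.conj g
  obtain ⟨-, -, -, -, -, -, h6, -⟩ := k2 _ (h2.trans (isConj_iff.2 ⟨g, h4⟩))
    (fun e => h3.1 (conj_eq_one_iff.1 (mul_eq_right.1 e))) (h5.mul_right (Commute.refl z))
  rw [← h5.eq, ← mul_assoc, h.cp.jj, one_mul] at h6
  exact h3.2 (bad _ (mul_mem_sup m₁ m₂) (h6.trans (isConj_iff.2 ⟨g, rfl⟩).symm))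

theorem exists_swap (h : FW F₁ F₂ L₁ L₂ z) (m₁ : y₁ ∈ L₁) (m₂ : y₂ ∈ L₂) (e₁ : y₁ * y₁ = z)
    (e₂ : y₂ * y₂ = z) : ∃ g, g * z * g⁻¹ = y₁ * y₂ ∧ g * (y₁ * y₂) * g⁻¹ = z := by
  have key : ∀ x ∈ L₁ ⊔ L₂, IsConj z x → x ≠ z → ∃ l ∈ L₁ ⊔ L₂, l * x * l⁻¹ = y₁ * y₂ :=
    fun x hx h1 h2 => by
    obtain ⟨g, hg⟩ := isConj_iff.1 h1
    rcases h.cp.sq_cases hx (by rw [← hg, conj_mul, h.cp.jj]; simp) with
      e | e | ⟨a, ha, b, hb, a2, b2, rfl⟩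
    exacts [absurd (conj_eq_one_iff.1 (hg.trans e)) h.cp.j_ne, absurd e h2,
      h.cp.exists_conj ha hb m₁ m₂ a2 b2 e₁ e₂]
  obtain ⟨x, hx, h1, h2⟩ := h.exists_fused
  obtain ⟨l, -, hl⟩ := key x hx h1 h2
  obtain ⟨g, hg⟩ := isConj_iff.1 (h1.trans (isConj_iff.2 ⟨l, hl⟩)).symm
  have h3 : g * y₁ * g⁻¹ ∈ Cen z := mem_Cen.2 (hg ▸ (((Commute.refl y₁).mul_left
    (show Commute y₁ y₂ from h.comm _ m₁ _ m₂).symm).conj g))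
  have h4 := (h.mul_mem_iff h3 h3).2 Iff.rfl
  rw [conj_mul, e₁] at h4
  obtain ⟨k, hk, e⟩ := key _ h4 (isConj_iff.2 ⟨g, rfl⟩) fun e =>
    (h.cp.mul_four_ne m₁ m₂ e₁).2 ((MulAut.conj g).injective (hg.trans e.symm))
  exact ⟨k * g, by rw [← e]; group, by
    rw [show k * g * (y₁ * y₂) * (k * g)⁻¹ = k * (g * (y₁ * y₂) * g⁻¹) * k⁻¹ by group, hg,
      ← (mem_Cen.1 (h.le hk)).eq, mul_inv_cancel_right]⟩

theorem step (h : FW F₁ F₂ L₁ L₂ z) (hS : Syl 2 S (Cen z)) (q₁ : QF L₁ S z y₁ s₁ r₁)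
    (q₂ : QF L₂ S z y₂ s₂ r₂) {k : ℕ} (hk : r₁ ^ 2 ^ (k + 1) = z) :
    ∃ g ∈ S, IsConj r₁ g ∧ g ^ 2 ^ (k + 1) = y₁ * y₂ ∧ (∀ c ∈ zpowers r₁, c * g = g * c) ∧
      (∀ c ∈ zpowers r₂, c * g = g * c) ∧ ∃ d₁ ∈ zpowers r₁, ∃ d₂ ∈ zpowers r₂,
        s₁ * g = g * d₁ * s₁ ∧ s₂ * g = g * d₂ * s₂ ∧ g * d₁ * d₂ = g⁻¹ ∧
        d₁ ^ 2 ^ (k + 1) = z ∧ d₂ ^ 2 ^ (k + 1) = z := by
  have : Fact (Nat.Prime 2) := ⟨Nat.prime_two⟩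
  have zc : ∀ c ∈ S, c * z = z * c := fun c hc => (mem_Cen.1 (hS.le hc)).eq.symm
  have hn : ∀ c ∈ S, c * (y₁ * y₂) * c⁻¹ = y₁ * y₂ ∨ c * (y₁ * y₂) * c⁻¹ = y₁ * y₂ * z :=
    fun c hc => by
    rw [← conj_mul]
    rcases q₁.yn c hc with a | a <;> rcases q₂.yn c hc with b | b <;> rw [a, b]
    · exact Or.inl rfl
    · exact Or.inr (by rw [q₂.yi, mul_assoc])
    · exact Or.inr (by rw [q₁.yi, mul_assoc, mul_assoc, zc _ q₂.yS])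
    · exact Or.inl (by
        rw [q₁.yi, q₂.yi, zc _ q₂.yS, mul_assoc, ← mul_assoc z, q₁.zz, one_mul])
  obtain ⟨δ₀, a1, a2⟩ := h.exists_swap q₁.yL q₂.yL q₁.yy q₂.yy
  obtain ⟨m, hm, δ, hδ, rfl⟩ := (hS.inf (M := Cen z ⊓ Cen (y₁ * y₂)) inf_le_left fun c hc =>
    mem_norm_of_cj_le (by
      rw [cj_inf, Cen_conj, Cen_conj, zc c hc, mul_inv_cancel_right]
      rcases hn c hc with e | e <;> rw [e]
      exact fun u hu => ⟨hu.1, mem_Cen.2 (by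
        simpa [mul_assoc, q₁.zz] using (mem_Cen.1 hu.2).mul_left (mem_Cen.1 hu.1))⟩)).frattini
    (n := δ₀) (by rw [← cj_eq_iff, cj_inf, Cen_conj, Cen_conj, a1, a2, inf_comm])
  have b1 : δ * z * δ⁻¹ = y₁ * y₂ := (MulAut.conj m).injective (by
    rw [MulAut.conj_apply, MulAut.conj_apply, ← (mem_Cen.1 hm.2).eq, mul_inv_cancel_right, ← a1]
    group)
  have hC : ∀ c ∈ S, c * (y₁ * y₂) = y₁ * y₂ * c → c ∈ S ⊓ (Cen z ⊓ Cen (y₁ * y₂)) :=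
    fun c hc e => ⟨hc, hS.le hc, mem_Cen.2 e.symm⟩
  have hW : ∀ c ∈ S, c * (y₁ * y₂) = y₁ * y₂ * c → ∀ u ∈ cj(δ, zpowers r₁),
      c * u * c⁻¹ ∈ cj(δ, zpowers r₁) := fun c hc e u hu => by
    have := q₁.conj_mem (conj_mem_of_norm' hδ (hC c hc e)).1 (mem_cj.1 hu)
    rw [mem_cj]
    convert this using 1
    group
  have triv : ∀ X : Subgroup G, y₁ * y₂ ∉ X → ∀ u ∈ cj(δ, zpowers r₁), u ∈ X → u = 1 := by
    rintro X hX _ ⟨c, hc, rfl⟩ hu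
    by_contra e
    obtain ⟨j, hj⟩ := q₁.z_mem_zpowers (q₁.memS hc) (q₁.memL hc) fun e' => e (by simp [e'])
    refine hX (b1 ▸ ?_)
    rw [← hj]
    simpa [conj_zpow] using zpow_mem hu j
  have t₁ : ∀ c ∈ zpowers r₁, c * (y₁ * y₂) = y₁ * y₂ * c := fun c hc => by
    rw [← mul_assoc, ((q₁.gen c).1 hc).2.2, mul_assoc, mul_assoc, h.comm c (q₁.memL hc) _ q₂.yL]
  have t₂ : ∀ c ∈ zpowers r₂, c * (y₁ * y₂) = y₁ * y₂ * c := fun c hc => by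
    rw [← mul_assoc, ← h.comm _ q₁.yL c (q₂.memL hc), mul_assoc, mul_assoc, ((q₂.gen c).1 hc).2.2]
  have gW : δ * r₁ * δ⁻¹ ∈ cj(δ, zpowers r₁) := conj_mem_cj (mem_zpowers r₁)
  have gS := (conj_mem_of_norm hδ (hC _ (q₁.memS (mem_zpowers r₁)) (t₁ _ (mem_zpowers r₁)))).1
  have gp : (δ * r₁ * δ⁻¹) ^ 2 ^ (k + 1) = y₁ * y₂ := by rw [conj_pow, hk, b1]
  refine ⟨_, gS, isConj_iff.2 ⟨δ, rfl⟩, gp, ?_⟩
  generalize δ * r₁ * δ⁻¹ = g at gW gS gp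
  have cm : ∀ {L : Subgroup G} {y s r : G}, QF L S z y s r → y₁ * y₂ ∉ L →
      (∀ c ∈ zpowers r, c * (y₁ * y₂) = y₁ * y₂ * c) → (∀ c ∈ zpowers r, c * g = g * c) ∧
        g⁻¹ * s * g * s⁻¹ ∈ zpowers r := fun {L y s r} q hL ht => ⟨fun c hc => by
      have := triv L hL _ (mul_mem (hW c (q.memS hc) (ht c hc) g gW) (inv_mem gW)) (by
        rw [mul_assoc c, mul_assoc c]
        exact mul_mem (q.memL hc) (conj_mem_of_norm (q.sn gS) (inv_mem (q.memL hc))))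
      rwa [mul_inv_eq_one, mul_inv_eq_iff_eq_mul] at this, (q.gen _).2
      ⟨mul_mem (mul_mem (mul_mem (inv_mem gS) q.sS) gS) (inv_mem q.sS),
        mul_mem (conj_mem_of_norm' (q.sn gS) q.sL) (inv_mem q.sL),
        by simpa only [inv_inv] using q.comm_y (inv_mem gS) q.sS⟩⟩
  obtain ⟨c₁, m₁⟩ := cm q₁ (fun e => h.symm.cp.four_not_mem q₂.yL q₂.yy
    ((mul_mem_cancel_left q₁.yL).1 e)) t₁
  obtain ⟨c₂, m₂⟩ := cm q₂ (fun e => h.cp.four_not_mem q₁.yL q₁.yy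
    ((mul_mem_cancel_right q₂.yL).1 e)) t₂
  have f₁ : s₁ * g = g * (g⁻¹ * s₁ * g * s₁⁻¹) * s₁ := by group
  have f₂ : s₂ * g = g * (g⁻¹ * s₂ * g * s₂⁻¹) * s₂ := by group
  generalize g⁻¹ * s₁ * g * s₁⁻¹ = d₁ at m₁ f₁
  generalize g⁻¹ * s₂ * g * s₂⁻¹ = d₂ at m₂ f₂
  have n₁ := h.comm _ q₁.sL _ (q₂.memL m₂)
  have h1 : g * d₁ * d₂ ∈ cj(δ, zpowers r₁) := by
    have := hW _ (mul_mem q₁.sS q₂.sS) (by
      rw [h.cp.mul_mul q₂.sL q₁.yL, h.cp.mul_mul q₂.yL q₁.sL, q₁.inv q₁.y_mem, q₂.inv q₂.y_mem,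
        q₁.yi, q₂.yi, mul_assoc y₁, ← zc _ q₁.sS, zc _ q₂.yS, mul_assoc z, mul_assoc y₁,
        mul_assoc s₁, ← mul_assoc z, q₁.zz, one_mul, mul_assoc]) g gW
    rwa [mul_assoc s₁, f₂, ← mul_assoc, ← mul_assoc, f₁, mul_assoc _ s₁, n₁, ← mul_assoc,
      mul_assoc _ s₁, mul_inv_cancel_right] at this
  have h2 : g * (g * d₁ * d₂) = 1 := triv (Cen s₁) (fun e => q₁.y_ne (by
    have := (mem_Cen.1 e).eq
    rw [← mul_assoc, q₁.inv q₁.y_mem, mul_assoc, h.comm _ q₁.sL _ q₂.yL, ← mul_assoc] at this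
    simpa using this)) _ (mul_mem gW h1) (mem_Cen.2 (by
      rw [commute_iff_eq, ← mul_assoc, ← mul_assoc, ← mul_assoc, f₁, mul_assoc _ s₁, f₁,
        mul_assoc _ _ d₁, mul_assoc _ s₁, q₁.inv m₁]
      calc _ = g * (d₁ * g) * (s₁ * d₂) := by group
        _ = _ := by rw [c₁ _ m₁, n₁]; group))
  have h3 : d₁⁻¹ ^ 2 ^ k * d₂⁻¹ ^ 2 ^ k = y₁ * y₂ := by
    have e := h.comm _ (q₁.memL m₁) _ (q₂.memL m₂)
    rw [← (show Commute d₁ d₂ from e).inv_inv.mul_pow, ← gp, pow_succ', pow_mul, pow_two,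
      ← mul_inv_rev, ← e, inv_eq_of_mul_eq_one_left (by rw [← h2]; group : g * g * (d₁ * d₂) = 1)]
  have h4 : ∀ {L : Subgroup G} {y s r d : G}, QF L S z y s r →
      d⁻¹ ^ 2 ^ k = y ∨ d⁻¹ ^ 2 ^ k = y * z → d ^ 2 ^ (k + 1) = z := fun {L y s r d} q e => by
    rw [← q.yi] at e
    rw [← inv_inj, ← inv_pow, pow_succ, pow_mul, pow_two]
    rcases e with e | e <;> rw [e]
    exacts [q.yy.trans (inv_eq_of_mul_eq_one_right q.zz).symm, by rw [← mul_inv_rev, q.yy]]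
  have h5 := h.cp.eq_of_mul_eq (pow_mem (inv_mem (q₁.memL m₁)) _) (pow_mem (inv_mem (q₂.memL m₂)) _)
    q₁.yL q₂.yL h3
  exact ⟨c₁, c₂, d₁, m₁, d₂, m₂, f₁, f₂, eq_inv_of_mul_eq_one_right h2,
    h4 q₁ (h5.imp And.left And.left), h4 q₂ (h5.imp And.right And.right)⟩

theorem core (h : FW F₁ F₂ L₁ L₂ z) (hS : Syl 2 S (Cen z)) : (∃ (k : ℕ) (ι : GS k →* G),
    Function.Injective ι ∧ ι.range = S ∧ ι (GS.z k) = z ∧ (GS.Q1 k).map ι ≤ L₁ ∧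
      (GS.Q2 k).map ι ≤ L₂) ∧ ∀ M : Subgroup G, M.index = 2 → S ≤ M := by
  have : Fact (Nat.Prime 2) := ⟨Nat.prime_two⟩
  obtain ⟨y₁, s₁, r₁, q₁⟩ := h.exists_qf hS
  obtain ⟨y₂, s₂, r₂, q₂⟩ := h.symm.exists_qf hS
  obtain ⟨k, hk⟩ := q₁.ord
  obtain ⟨k', hk'⟩ := q₂.ord
  obtain ⟨g, gS, g0, gp, c₁, c₂, d₁, m₁, d₂, m₂, f₁, f₂, f₃, p₁, p₂⟩ := h.step hS q₁ q₂ hk
  obtain rfl : k = k' := by
    obtain ⟨-, -, -, -, -, -, -, -, d, m, -, -, -, -, p⟩ := h.symm.step hS q₂ q₁ hk'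
    have a := orderOf_dvd_of_mem_zpowers m₂
    have b := orderOf_dvd_of_mem_zpowers m
    rw [q₁.orderOf_eq p₂, q₁.orderOf_eq hk', Nat.pow_dvd_pow_iff_le_right one_lt_two] at a
    rw [q₁.orderOf_eq p, q₁.orderOf_eq hk, Nat.pow_dvd_pow_iff_le_right one_lt_two] at b
    omega
  have gL : g ∉ L₁ ⊔ L₂ := fun e => by
    obtain ⟨a, ha, b, hb, rfl⟩ := h.exists_mul hS gS e
    have key : ∀ {L : Subgroup G} {y s r c : G}, QF L S z y s r → r ^ 2 ^ (k + 1) = z →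
        c ∈ S ⊓ L → c * y = y * c → c ^ 2 ^ (k + 1) ∈ zpowers z := fun {L y s r c} q hr hc e => by
      obtain ⟨j, rfl⟩ := (q.gen c).2 ⟨hc.1, hc.2, e⟩
      simp only [← zpow_natCast, ← zpow_mul, mul_comm j] at hr ⊢
      rw [zpow_mul, hr]
      exact zpow_mem (mem_zpowers z) j
    have h1 := mul_mem (key q₁ hk ha (by
      have := c₁ _ q₁.y_mem
      rw [mul_assoc, ← h.comm _ q₁.yL _ hb.2, ← mul_assoc, ← mul_assoc] at this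
      exact (mul_right_cancel this).symm)) (key q₂ hk' hb (by
      have := c₂ _ q₂.y_mem
      rw [← mul_assoc, ← h.comm _ ha.2 _ q₂.yL, mul_assoc, mul_assoc] at this
      exact (mul_left_cancel this).symm))
    rw [← (show Commute a b from h.comm a ha.2 b hb.2).mul_pow, gp] at h1
    exact (eq_one_or_eq_of_mem_zpowers h.ord h1).elim (h.cp.mul_four_ne q₁.yL q₂.yL q₁.yy).1
      (h.cp.mul_four_ne q₁.yL q₂.yL q₁.yy).2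
  have gen : ∀ X : Subgroup G, g ∈ X → S ⊓ L₁ ≤ X → S ⊓ L₂ ≤ X → S ≤ X := fun X a b c x hx => by
    have key : ∀ u ∈ S, u ∈ L₁ ⊔ L₂ → u ∈ X := fun u hu e => by
      obtain ⟨a, ha, b', hb, rfl⟩ := h.exists_mul hS hu e
      exact mul_mem (b ha) (c hb)
    by_cases e : x ∈ L₁ ⊔ L₂
    · exact key x hx e
    · exact (mul_mem_cancel_right a).1 (key _ (mul_mem hx gS)
        ((h.mul_mem_iff (hS.le hx) (hS.le gS)).2 (iff_of_false e gL)))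
  refine ⟨?_, fun M hM => gen M ?_ (fun c hc => q₁.le_of_index_two hM hc.1 hc.2)
    fun c hc => q₂.le_of_index_two hM hc.1 hc.2⟩
  swap
  · obtain ⟨δ, rfl⟩ := isConj_iff.1 g0
    exact (normal_of_index_eq_two hM).conj_mem _ (q₁.le_of_index_two hM (q₁.memS (mem_zpowers _))
      (q₁.memL (mem_zpowers _))) δ
  have zc : ∀ c ∈ S, c * z = z * c := fun c hc => (mem_Cen.1 (hS.le hc)).eq.symm
  have e1 : y₁ * s₂ * (s₁ * (s₂ * y₂)) = y₁ * s₁ * (z * y₂) := by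
    rw [h.cp.mul_mul q₂.sL q₁.sL, ← mul_assoc s₂, q₂.ss]
  have sy : s₂ * y₂ * (s₂ * y₂) = z := by rw [q₂.inv q₂.y_mem]; exact q₂.sq_mul (inv_mem q₂.y_mem)
  have ab : g * (g * d₂) = d₁⁻¹ := by
    rw [eq_inv_iff_mul_eq_one, mul_assoc, mul_assoc, ← h.comm _ (q₁.memL m₁) _ (q₂.memL m₂),
      ← mul_assoc g d₁, f₃, mul_inv_cancel]
  obtain ⟨ι, i1, i2, i3, i4, i5⟩ := (show GS.Rel k g (g * d₂) (y₁ * s₂) (s₁ * (s₂ * y₂)) from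
    { ha := by rw [pow_succ, pow_mul, gp, pow_two, h.cp.mul_four_sq q₁.yL q₂.yL q₁.yy q₂.yy]
      ab := by rw [mul_assoc, c₂ _ m₂]
      tt := h.cp.mul_four_sq q₁.yL q₂.sL q₁.yy q₂.ss
      uu := h.cp.mul_four_sq q₁.sL (mul_mem q₂.sL q₂.yL) q₁.ss sy
      tu := by
        rw [e1, h.cp.mul_mul (mul_mem q₂.sL q₂.yL) q₁.yL, q₁.inv q₁.y_mem, q₂.inv q₂.y_mem,
          mul_assoc y₂⁻¹, q₂.ss, q₁.yi, q₂.yi, mul_assoc y₂, q₁.zz, mul_one, mul_assoc y₁ z,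
          ← zc _ q₁.sS]
        group
      ta := by
        rw [mul_assoc, f₂, ← mul_assoc, ← mul_assoc, c₁ _ q₁.y_mem, mul_assoc g y₁,
          h.comm _ q₁.yL _ (q₂.memL m₂)]
        group
      ua := by
        rw [mul_assoc, mul_assoc, c₂ _ q₂.y_mem, ← mul_assoc s₂, f₂, ← mul_assoc, ← mul_assoc,
          ← mul_assoc, f₁, mul_assoc _ s₁, h.comm _ q₁.sL _ (q₂.memL m₂), ← f₃]
        group }).exists_hom
  have iz : ι (GS.z k) = z := by rw [i5, ab, inv_pow, p₁, inv_eq_of_mul_eq_one_right q₁.zz]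
  have ih : ι (GS.o (hf k) 0) = y₁ * y₂ := by
    rw [← gp, ← i1, ← map_pow, GS.o_pow]; simp [hf, Inv.Fz.hh]
  have it : ι (GS.t (hf k) 0) = z * y₂ * s₂ := by
    rw [show GS.t (hf k) 0 = GS.o (hf k) 0 * GS.t 0 0 by simp, map_mul, ih, i3,
      h.cp.mul_mul q₂.yL q₁.yL, q₁.yy, mul_assoc]
  have iv : ι (GS.v (hf k) 0) = z * (s₁ * z * z) := by
    rw [show GS.v (hf k) 0 = GS.o (hf k) 0 * (GS.t 0 0 * GS.u 0 0) by simp, map_mul, map_mul, ih,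
      i3, i4, e1, h.cp.mul_mul q₂.yL (mul_mem q₁.yL q₁.sL), ← mul_assoc y₁, q₁.yy, ← mul_assoc y₂,
      zc _ q₂.yS, mul_assoc z y₂, q₂.yy]
    group
  have i6 : ι (GS.o 1 1) = d₁⁻¹ := by
    rw [show GS.o 1 1 = (GS.o 1 0 * GS.o 0 1 : GS k) by simp, map_mul, i1, i2, ab]
  have i7 : ι (GS.o 1 (-1)) = d₂⁻¹ := by
    rw [show GS.o 1 (-1) = ((GS.o 0 1)⁻¹ * GS.o 1 0 : GS k) by simp, map_mul, map_inv, i1, i2]
    group
  have zp : ∀ {r d : G}, d ∈ zpowers r → r ^ 2 ^ (k + 1) = z → d ^ 2 ^ (k + 1) = z →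
      d⁻¹ ∈ ι.range → zpowers r ≤ ι.range := fun {r d} hd a b c => by
    rw [← eq_of_le_of_card_ge (zpowers_le.2 hd) (by
      rw [Nat.card_zpowers, Nat.card_zpowers, q₁.orderOf_eq a, q₁.orderOf_eq b])]
    exact zpowers_le.2 (inv_mem_iff.1 c)
  have z₁ := zp m₁ hk p₁ ⟨_, i6⟩
  have z₂ := zp m₂ hk' p₂ ⟨_, i7⟩
  have s2 : s₂ ∈ ι.range := (mul_mem_cancel_left (z₁ q₁.y_mem)).1 ⟨_, i3⟩
  have s1 : s₁ ∈ ι.range := (mul_mem_cancel_right (mul_mem s2 (z₂ q₂.y_mem))).1 ⟨_, i4⟩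
  refine ⟨k, ι, GS.injective_of_z ι (iz ▸ q₁.z1), hS.eq_of_le (by
    rw [MonoidHom.range_eq_map]; exact (pg_top.2 GS.isPGroup).map ι) (gen _ ⟨_, i1⟩
      (fun c hc => (q₁.cases hc.1 hc.2).elim (fun e => z₁ e)
        fun e => (mul_mem_cancel_right (inv_mem s1)).1 (z₁ e))
      fun c hc => (q₂.cases hc.1 hc.2).elim (fun e => z₂ e)
        fun e => (mul_mem_cancel_right (inv_mem s2)).1 (z₂ e)) ?_, iz, ?_, ?_⟩
  · rintro _ ⟨x, rfl⟩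
    exact mem_Cen.2 (iz ▸ (show Commute x (GS.z k) from GS.z_comm x).symm.map ι)
  · rw [map_le_iff_le_comap]
    have a : ∀ c, GS.o c c ∈ L₁.comap ι := fun c => by
      simpa using GS.o_mul_mem (show GS.o 1 1 ∈ L₁.comap ι from mem_comap.2 <| i6 ▸ inv_mem (q₁.memL m₁)) c
    intro x hx
    rcases GS.Q1_cases hx with ⟨c, rfl⟩ | ⟨c, rfl⟩
    · exact a c
    · simpa using mul_mem (a c) (show GS.v (hf k) 0 ∈ L₁.comap ι from mem_comap.2 <|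
        iv ▸ mul_mem q₁.d.mem (mul_mem (mul_mem q₁.sL q₁.d.mem) q₁.d.mem))
  · rw [map_le_iff_le_comap]
    have a : ∀ c, GS.o c (-c) ∈ L₂.comap ι := fun c => by
      simpa using GS.o_mul_mem (show GS.o 1 (-1) ∈ L₂.comap ι from mem_comap.2 <| i7 ▸ inv_mem (q₂.memL m₂)) c
    intro x hx
    rcases GS.Q2_cases hx with ⟨c, rfl⟩ | ⟨c, rfl⟩
    · exact a c
    · simpa using mul_mem (a c) (show GS.t (hf k) 0 ∈ L₂.comap ι from mem_comap.2 <|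
        it ▸ mul_mem (mul_mem q₂.d.mem q₂.yL) q₂.sL)

theorem syl_top (h : FW F₁ F₂ L₁ L₂ z) (hS : Syl 2 S (Cen z)) : Syl 2 S ⊤ := by
  have : Fact (Nat.Prime 2) := ⟨Nat.prime_two⟩
  obtain ⟨⟨k, ι, hι, rfl, iz, -⟩, -⟩ := h.core hS
  refine Syl.of_norm hS.pg le_top fun P hP h1 _ h2 => hS.ge_of_le hP h1 fun n hn => ?_
  obtain ⟨c, hc⟩ := conj_mem_of_norm (h2 hn) (show z ∈ ι.range from ⟨_, iz⟩)
  rcases GS.eq_of_central (g := c) fun s => hι (by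
    have := (mem_Cen.1 (hS.le (conj_mem_of_norm' (h2 hn) (show ι s ∈ ι.range from ⟨s, rfl⟩)))).conj n
    rw [map_mul, map_mul, hc]
    simpa [mul_assoc] using this.eq.symm) with rfl | rfl
  · exact absurd (conj_eq_one_iff.1 (hc.symm.trans (map_one ι))) h.cp.j_ne
  · exact mem_Cen.2 (mul_inv_eq_iff_eq_mul.1 (hc.symm.trans iz)).symm

end FW

theorem FW.syl (h : FW F₁ F₂ L₁ L₂ z) : ∃ (k : ℕ) (ι : GS k →* G), Function.Injective ι ∧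
    Syl 2 ι.range ⊤ ∧ ι (GS.z k) = z ∧ (GS.Q1 k).map ι ≤ L₁ ∧ (GS.Q2 k).map ι ≤ L₂ := by
  have : Fact (Nat.Prime 2) := ⟨Nat.prime_two⟩
  obtain ⟨S, hS⟩ := Syl.exists 2 (Cen z)
  obtain ⟨⟨k, ι, hι, rfl, h1⟩, -⟩ := h.core hS
  exact ⟨k, ι, hι, h.syl_top hS, h1⟩

theorem FW.isConj (h : FW F₁ F₂ L₁ L₂ z) (hw : orderOf w = 2) : IsConj z w := by
  have : Fact (Nat.Prime 2) := ⟨Nat.prime_two⟩
  obtain ⟨S, hS⟩ := Syl.exists 2 (Cen z)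
  have h1 : ¬ 2 ∣ S.index := by simpa using (h.syl_top hS).nd
  have h2 : (L₁ ⊔ L₂).relIndex S = 2 := by
    obtain ⟨a, ha, h3⟩ : ∃ a ∈ S, a ∉ L₁ ⊔ L₂ := by
      by_contra! e
      exact hS.nd (by rw [← relIndex_mul_relIndex S _ _ e h.le, h.idx]; exact dvd_mul_left _ _)
    refine relIndex_eq_two_iff.2 ⟨a, ha, fun b hb => ?_⟩
    rw [h.mul_mem_iff (hS.le hb) (hS.le ha)]
    by_cases e : b ∈ L₁ ⊔ L₂ <;> simp [e, h3]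
  rcases GT.Tr.thompson_transfer_index_two h1 h2 (u := w) (hw ▸ pow_orderOf_eq_one w) with
    ⟨M, -, hM, -⟩ | ⟨g, hg⟩
  · exact absurd (hM ▸ index_dvd_of_le ((h.core hS).2 M hM)) h1
  refine IsConj.trans ?_ (isConj_iff.2 ⟨g, rfl⟩).symm
  rcases h.cp.sq_cases hg (by rw [conj_mul, Inv.mul_self_of_two hw]; simp) with
    e | e | ⟨a, ha, b, hb, a2, b2, e⟩
  · exact absurd (conj_eq_one_iff.1 e) (Inv.ne_one_of_two hw)
  · rw [e]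
  · obtain ⟨k, hk, -⟩ := h.exists_swap ha hb a2 b2
    exact isConj_iff.2 ⟨k, hk.trans e.symm⟩

theorem FW.lat (h : FW F₁ F₂ L₁ L₂ z) (hw : orderOf w = 2) :
    FW F₁ F₂ (Lat L₁ z w) (Lat L₂ z w) w := h.lat_of_conj (h.isConj hw)

end Cfsg.Agent.G2T
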