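import Mathlib
import Cfsg.Agent.Rec.Pres

/-! Generated by tools/rec: groups of order 64 with a self-centralizing element of order 8 -/

set_option autoImplicit false
set_option maxRecDepth 100000
set_option linter.unusedVariables false
set_option exponentiation.threshold 100000

namespace Cfsg.Agent.G2T.O64

open Cfsg.Agent.Spor Cfsg.Agent.Rec

universe u

/-- Packed permutations of 16 points. -/
noncomputable def A16 : Ar := permAr (nat_lit 16) (nat_lit 0xf0e0d0c0b0a09080706050403020100)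

theorem A16_ok : oneOK (nat_lit 16) (nat_lit 0xf0e0d0c0b0a09080706050403020100) = true := by decide +kernel

/-- Packed permutations of 32 points. -/
noncomputable def A32 : Ar := permAr (nat_lit 32) (nat_lit 0x1f1e1d1c1b1a191817161514131211100f0e0d0c0b0a09080706050403020100)

theorem A32_ok : oneOK (nat_lit 32) (nat_lit 0x1f1e1d1c1b1a191817161514131211100f0e0d0c0b0a09080706050403020100) = true := by decide +kernel

def rN : List (List ℕ) :=
  [[0, 1],
   [1, 0],
   [3, 4],
   [4, 3],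
   [0, 0, 0, 0, 0, 0, 0, 0],
   [2, 2],
   [2, 0, 2, 0, 0, 0],
   [3, 0, 4, 0],
   [3, 2, 4, 2]]

def rG : List (List ℕ) :=
  [[5, 6],
   [6, 5],
   [5, 0, 6, 1, 2],
   [5, 2, 6, 2]]

def eA0 : List (List ℕ) :=
  [[3, 3]]

def eB0 : List (List ℕ) :=
  [[5, 5]]

def eC0 : List (List ℕ) :=
  [[3, 5, 3, 5, 2]]

def eA1 : List (List ℕ) :=
  [[3, 3, 0, 0, 0, 0]]

def eB1 : List (List ℕ) :=
  [[5, 5, 0, 0, 0, 0]]

def eC1 : List (List ℕ) :=
  [[3, 5, 3, 5, 1, 1, 2]]

def rN0 : List (List ℕ) := rN ++ eA0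

noncomputable def tN0_rels : LT :=
(.node (.node (.node (.node (.leaf [])
 (.leaf [nat_lit 3,nat_lit 0,nat_lit 4,nat_lit 0])
) (.leaf [nat_lit 3,nat_lit 4])
) (.node (.node (.leaf [nat_lit 1,nat_lit 0])
 (.leaf [nat_lit 3,nat_lit 3])
) (.leaf [nat_lit 0,nat_lit 0,nat_lit 0,nat_lit 0,nat_lit 0,nat_lit 0,nat_lit 0,nat_lit 0])
)) (.node (.node (.node (.leaf [nat_lit 0,nat_lit 1])
 (.leaf [nat_lit 3,nat_lit 2,nat_lit 4,nat_lit 2])
) (.leaf [nat_lit 4,nat_lit 3])
) (.node (.leaf [nat_lit 2,nat_lit 2])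
 (.leaf [nat_lit 2,nat_lit 0,nat_lit 2,nat_lit 0,nat_lit 0,nat_lit 0])
)))
noncomputable def tN0_hws : LT :=
(.leaf [])

noncomputable def tN0_inv : ℕ → ℕ := getP (nat_lit 8) (nat_lit 255) (nat_lit 0x304020001)

noncomputable def tN0_t : BT :=
(.node (.node (.node (.leaf (nat_lit 0x12269a00275f122296122013121d97121b90721a140020dc12170d001e5b0024de00124800235d000fc6720f0c120d87520b890419190018d8000843000c4f001455001052000542120484040e11040a0e00074a04078b0000c0040285040001))
 (.leaf (nat_lit 0x25d90023d40021d2001f51001ccf001ace00265f0017cc00164b0014c900134800245e0010c600225d001fdc000cc5001d5b001b5a0008c30018580016d70006420015560013d50003c1001153000d500001c000094d0006ca000447000244))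
) (.node (.leaf (nat_lit 0x32279d3225170027df322115321e90321c18821992001c5a00255e32158a00215ca2128b3211870019d9820e88001edb000b45420a8c320984000ace0012d40015d60005c2000ed10011d3000341040b0f0009cd000140040589040306040103))
 (.leaf (nat_lit 0x140d90100d40100d20100d10100cf0100ce01000e00c0cc00c0cb00c0c900c0c800c04800c0c600c04600c00600c0c500c08500c0050080c30080430080030080c20080820080420080c10080810080010040c0004080004040004000000000))
)) (.node (.node (.leaf (nat_lit 0x22271e222495222313222098221e160026df00194e22188d001ddb0022dd22140a001a5900205c921009000e46001bda620c0b000a45001757000f510007c3220704000bcf041214000dd0040f920002c10004c704080c040508000040040082))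
 (.leaf (nat_lit 0x1ffc001ffc001ffc001ffc001ffc001ffc001ffc001ffc001ffc001ffc001ffc001ffc001ffc001ffc001ffc001ffc001ffc001ffc001ffc001ffc001ffc001ffc001ffc001ffc001ffc001ffc001ffc001ffc001ffc001ffc001ffc001ffc0))
) (.leaf (nat_lit 0x22619022414022212021f91021d0f021b0e04259f02180c02168b02150902138804239e02110604219d041f1c020d05041c9b041a9a020903041798041617020682041496041315020401041093040c9002020004088d04060a040387040184))
))

noncomputable def tN0_rules : LT :=
(.node (.node (.node (.node (.leaf [nat_lit 10,nat_lit 0,nat_lit 1,nat_lit 3,nat_lit 4])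
 (.leaf [nat_lit 7,nat_lit 3,nat_lit 1,nat_lit 2,nat_lit 1,nat_lit 2,nat_lit 1,nat_lit 1,nat_lit 1])
) (.leaf [nat_lit 7,nat_lit 5,nat_lit 1,nat_lit 2,nat_lit 1,nat_lit 1,nat_lit 1,nat_lit 2,nat_lit 1])
) (.node (.node (.leaf [nat_lit 8,nat_lit 1,nat_lit 0,nat_lit 1,nat_lit 4,nat_lit 0,nat_lit 3])
 (.leaf [nat_lit 7,nat_lit 2,nat_lit 0,nat_lit 2,nat_lit 0,nat_lit 0,nat_lit 0,nat_lit 2,nat_lit 0])
) (.leaf [nat_lit 7,nat_lit 5,nat_lit 0,nat_lit 1,nat_lit 2,nat_lit 0,nat_lit 2,nat_lit 0,nat_lit 0])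
)) (.node (.node (.node (.leaf [nat_lit 8,nat_lit 2,nat_lit 1,nat_lit 0,nat_lit 4,nat_lit 1,nat_lit 3])
 (.leaf [nat_lit 7,nat_lit 4,nat_lit 0,nat_lit 1,nat_lit 0,nat_lit 2,nat_lit 0,nat_lit 2,nat_lit 0])
) (.leaf [nat_lit 7,nat_lit 4,nat_lit 1,nat_lit 0,nat_lit 2,nat_lit 1,nat_lit 1,nat_lit 1,nat_lit 2])
) (.node (.leaf [nat_lit 9,nat_lit 2,nat_lit 1,nat_lit 2,nat_lit 4,nat_lit 2,nat_lit 3])
 (.leaf [nat_lit 7,nat_lit 1,nat_lit 1,nat_lit 0,nat_lit 1,nat_lit 2,nat_lit 1,nat_lit 2,nat_lit 1])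
)))

noncomputable def tN0_subs : LT :=
(.leaf [nat_lit 0,nat_lit 0,nat_lit 0,nat_lit 5])


noncomputable def tN0 : TC :=
  ⟨fun x c => Nat.shiftRight (BT.get tN0_t x) (Nat.mul (nat_lit 24) c),
  (nat_lit 6), (nat_lit 63), (nat_lit 131071), (nat_lit 17), (nat_lit 127), (nat_lit 131008), (nat_lit 32), (nat_lit 32), (nat_lit 5), (nat_lit 0), (nat_lit 5), (nat_lit 6), tN0_inv, tN0_rules, tN0_subs⟩

theorem tN0_c1 : tN0.rules.all (ruleOK tN0.m tN0.inv tN0_rels) = true := by decide +kernel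
theorem tN0_c2 : tN0.subs.all (subOK tN0.m tN0.inv tN0_hws) = true := by decide +kernel
theorem tN0_c3 : tN0.base = true := by decide +kernel

theorem tN0_s0 : tN0.slots (nat_lit 0) (nat_lit 32) = true := by decide +kernel

theorem tN0_c4 : tN0.Upto tN0.N := ((TC.upto_zero tN0).step _ tN0_s0)
theorem tN0_c5 : tN0.UptoE tN0.N := (TC.uptoE_n tN0)
theorem tN0_bound {G : Type*} [Group G] {g : ℕ → G} {H : Subgroup G} (hinv : ∀ x < 5, g x * g (tN0_inv x) = 1)
    (hrels : ∀ i, evalW g (tN0_rels.get i) = 1) (hH : ∀ x < 0, g x ∈ H) (hhws : ∀ i, evalW g (tN0_hws.get i) ∈ H) :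
    H.relIndex (genLt g 5) ≠ 0 ∧ H.relIndex (genLt g 5) ≤ 32 :=
  TC.relIndex_le (T := tN0) hinv hrels hH hhws tN0_c1 tN0_c2 tN0_c3 tN0_c4 tN0_c5

theorem tN0_bd : Bound.{u} rN0 0 5 32 := fun _ _ _ _ hs hH =>
  tN0_bound (hs.hinv (by decide +kernel)) (hs.tree (by decide +kernel)) hH (leaf_nil_mem' _ _ (by decide +kernel))

theorem presN0 : Pres.{u} rN0 5 32 := pres_nil.step tN0_bd (by decide +kernel)

noncomputable def cN0 : List ℕ := [(nat_lit 0xd070e05060f0c020b0308090a000401), (nat_lit 0xa0d0f09070304050e0b0c0106080002), (nat_lit 0xf0e060c0b0702080a0d010403090500), (nat_lit 0x80c050e0402070f09010d0b000a0603), (nat_lit 0x80c050e0402070f09010d0b000a0603)]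

theorem cN0_ok : allL cN0 (permOK 16) = true := by decide +kernel

noncomputable def N0_t : ST :=
(.node (nat_lit 0x80c010e04090a0f0205060b00070d03) (.node (nat_lit 0x400010308090a0b0205060f0c070d0e) (.node (nat_lit 0x2050407090c0f0d00080306010b0e0a) (.node (nat_lit 0x102000605040307080c0b0a090e0f0d) (.node (nat_lit 0x8090b0c050d0e01020a030406070f) (.leaf (nat_lit 0x8020b0c01060e05090703040d0a0f) (nat_lit 771))
 (.leaf (nat_lit 0x8090b0c050d0e01020a030406070f) (nat_lit 1027))
) (.node (nat_lit 0x1020c0605080e0704000f0a09030b0d) (.leaf (nat_lit 0x102000605040307080c0b0a090e0f0d) (nat_lit 1027))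
 (.leaf (nat_lit 0x1020c0605080e0704000f0a09030b0d) (nat_lit 771))
)) (.node (nat_lit 0x30f07040e0d050c060a02000b010908) (.node (nat_lit 0x205080709000b0d0c040e06010f030a) (.leaf (nat_lit 0x2050407090c0f0d00080306010b0e0a) (nat_lit 771))
 (.leaf (nat_lit 0x205080709000b0d0c040e06010f030a) (nat_lit 515))
) (.node (nat_lit 0x30f0a040e06010c0d0709000b050208) (.leaf (nat_lit 0x30f07040e0d050c060a02000b010908) (nat_lit 768))
 (.leaf (nat_lit 0x30f0a040e06010c0d0709000b050208) (nat_lit 513))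
))) (.node (nat_lit 0x60a03010d0b00090f0e0402070c0805) (.node (nat_lit 0x509000d0104030a080c0b07020e0f06) (.node (nat_lit 0x40005030802070b09010d0f0c0a060e) (.leaf (nat_lit 0x400010308090a0b0205060f0c070d0e) (nat_lit 1283))
 (.leaf (nat_lit 0x40005030802070b09010d0f0c0a060e) (nat_lit 1027))
) (.node (nat_lit 0x5090c0d01080e0a04000f0702030b06) (.leaf (nat_lit 0x509000d0104030a080c0b07020e0f06) (nat_lit 771))
 (.leaf (nat_lit 0x5090c0d01080e0a04000f0702030b06) (nat_lit 515))
)) (.node (nat_lit 0x7060b020a0e0801030f00050d040c09) (.node (nat_lit 0x60a0e010d0f0c090b03080207000405) (.leaf (nat_lit 0x60a03010d0b00090f0e0402070c0805) (nat_lit 769))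
 (.leaf (nat_lit 0x60a0e010d0f0c090b03080207000405) (nat_lit 514))
) (.node (nat_lit 0x7060f020a0304010e0b0c050d080009) (.leaf (nat_lit 0x7060b020a0e0801030f00050d040c09) (nat_lit 768))
 (.leaf (nat_lit 0x7060f020a0304010e0b0c050d080009) (nat_lit 514))
)))) (.node (nat_lit 0xc04020f000106030509070e080d0a0b) (.node (nat_lit 0xa0d0b09070e0805030f000106040c02) (.node (nat_lit 0x901040a020c0f060008030d050b0e07) (.node (nat_lit 0x80c050e0402070f09010d0b000a0603) (.leaf (nat_lit 0x80c010e04090a0f0205060b00070d03) (nat_lit 515))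
 (.leaf (nat_lit 0x80c050e0402070f09010d0b000a0603) (nat_lit 259))
) (.node (nat_lit 0x901080a02000b060c040e0d050f0307) (.leaf (nat_lit 0x901040a020c0f060008030d050b0e07) (nat_lit 1027))
 (.leaf (nat_lit 0x901080a02000b060c040e0d050f0307) (nat_lit 771))
)) (.node (nat_lit 0xb0306000f0702040a0d01080e09050c) (.node (nat_lit 0xa0d0f09070304050e0b0c0106080002) (.leaf (nat_lit 0xa0d0b09070e0805030f000106040c02) (nat_lit 513))
 (.leaf (nat_lit 0xa0d0f09070304050e0b0c0106080002) (nat_lit 257))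
) (.node (nat_lit 0xb030d000f0a0904070605080e02010c) (.leaf (nat_lit 0xb0306000f0702040a0d01080e09050c) (nat_lit 1024))
 (.leaf (nat_lit 0xb030d000f0a0904070605080e02010c) (nat_lit 769))
))) (.node (nat_lit 0xe0b0708030d0500060a020c0f010904) (.node (nat_lit 0xd070305060b00020f0e04090a0c0801) (.node (nat_lit 0xc04090f00050d0301020a0e0806070b) (.leaf (nat_lit 0xc04020f000106030509070e080d0a0b) (nat_lit 1027))
 (.leaf (nat_lit 0xc04090f00050d0301020a0e0806070b) (nat_lit 771))
) (.node (nat_lit 0xd070e05060f0c020b0308090a000401) (.leaf (nat_lit 0xd070305060b00020f0e04090a0c0801) (nat_lit 512))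
 (.leaf (nat_lit 0xd070e05060f0c020b0308090a000401) (nat_lit 256))
)) (.node (nat_lit 0xf0e060c0b0702080a0d010403090500) (.node (nat_lit 0xe0b0a08030601000d07090c0f050204) (.leaf (nat_lit 0xe0b0708030d0500060a020c0f010904) (nat_lit 512))
 (.leaf (nat_lit 0xe0b0a08030601000d07090c0f050204) (nat_lit 770))
) (.node (nat_lit 0xf0e0d0c0b0a09080706050403020100) (.leaf (nat_lit 0xf0e060c0b0702080a0d010403090500) (nat_lit 258))
 (.leaf (nat_lit 0xf0e0d0c0b0a09080706050403020100) (nat_lit 0))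
)))))

theorem N0_ok : genOK A16 [(nat_lit 0xd070e05060f0c020b0308090a000401), (nat_lit 0xa0d0f09070304050e0b0c0106080002), (nat_lit 0xf0e060c0b0702080a0d010403090500), (nat_lit 0x80c050e0402070f09010d0b000a0603), (nat_lit 0x80c050e0402070f09010d0b000a0603)] N0_t (nat_lit 32) = true := by decide +kernel

def rN1 : List (List ℕ) := rN ++ eA1

noncomputable def tN1_rels : LT :=
(.node (.node (.node (.node (.leaf [])
 (.leaf [nat_lit 3,nat_lit 0,nat_lit 4,nat_lit 0])
) (.leaf [nat_lit 3,nat_lit 4])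
) (.node (.node (.leaf [nat_lit 1,nat_lit 0])
 (.leaf [nat_lit 3,nat_lit 3,nat_lit 0,nat_lit 0,nat_lit 0,nat_lit 0])
) (.leaf [nat_lit 0,nat_lit 0,nat_lit 0,nat_lit 0,nat_lit 0,nat_lit 0,nat_lit 0,nat_lit 0])
)) (.node (.node (.node (.leaf [nat_lit 0,nat_lit 1])
 (.leaf [nat_lit 3,nat_lit 2,nat_lit 4,nat_lit 2])
) (.leaf [nat_lit 4,nat_lit 3])
) (.node (.leaf [nat_lit 2,nat_lit 2])
 (.leaf [nat_lit 2,nat_lit 0,nat_lit 2,nat_lit 0,nat_lit 0,nat_lit 0])
)))
noncomputable def tN1_hws : LT :=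
(.leaf [])

noncomputable def tN1_inv : ℕ → ℕ := getP (nat_lit 8) (nat_lit 255) (nat_lit 0x304020001)

noncomputable def tN1_t : BT :=
(.node (.node (.node (.leaf (nat_lit 0x1ffc00489b6402245a0009e7c00251e0087728121bd000867440017073c8593c1213c90084220c20f0b2083680001e9b000827000229d000250c000fd400045540014960005e600005c20481414020404010555c040c93000213400074c01022380000c00100a18040001))
 (.leaf (nat_lit 0x1ffc02c8a15c0024142c88d3c00200b0007620b21cce000661d321850000987800150a000411804265f2c84b30000bc41d863600009c30008670001b19000394c0006c201087740011d50007e6c0003c10106d6804135601030800001c00102a4404078d0101224040205))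
) (.node (.leaf (nat_lit 0x1ffc01889f585225551888b345220cc1487b38621c4914869212617d2408572800281f0009678000ec6248343c0018181882c14520a04000354c001f1b0008c7400211c00019080016170007268001a990000d04040e940002d44000a50000050004060b0100c1c040103))
 (.leaf (nat_lit 0x810500404500100d4003042c00c0cb003032000c107003031c00c047003001c00c106003031800c08600300180080c4002040c0080c3002010c00800300204080080c2002020800804200204040080c1002020400800100104000040c000102000040400010000000000))
)) (.node (.node (.leaf (nat_lit 0xdd31089d743224dc10889403220510c8794800249e0009c7d12174b000561c42144c0c84434d20f8e000331a0812530006864001c1a0005a5c0008c310820143207040003d50001e1b00050580010d50105b600002c10001524000448010243c04058a0000100040082))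
 (.leaf (nat_lit 0x1461212007ff0001ffc0007ff0001ffc0007ff0001ffc0007ff0001ffc0007ff0001ffc0007ff0001ffc0007ff0001ffc0007ff0001ffc0007ff0001ffc0007ff0001ffc0007ff0001ffc0007ff0001ffc0007ff0001ffc0007ff0001ffc0007ff0001ffc0007ff0001ffc0))
) (.leaf (nat_lit 0xc450009a50e225d7000882ce2214f3887d24001b873886b38001911000a27c00138638846280423de28838360812850002b0c0018980008e74001d1a0001f080013130107f702214d60001304041d5b01065640410150000900040b92010264004068c0100e20040184))
))

noncomputable def tN1_rules : LT :=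
(.node (.node (.node (.node (.node (.leaf [nat_lit 8,nat_lit 2,nat_lit 1,nat_lit 0,nat_lit 4,nat_lit 1,nat_lit 3])
 (.leaf [nat_lit 7,nat_lit 3,nat_lit 1,nat_lit 2,nat_lit 1,nat_lit 2,nat_lit 1,nat_lit 1,nat_lit 1])
) (.leaf [nat_lit 10,nat_lit 0,nat_lit 1,nat_lit 0,nat_lit 1,nat_lit 1,nat_lit 1,nat_lit 4,nat_lit 4])
) (.node (.node (.leaf [nat_lit 8,nat_lit 3,nat_lit 0,nat_lit 1,nat_lit 3,nat_lit 0,nat_lit 4])
 (.leaf [nat_lit 10,nat_lit 1,nat_lit 0,nat_lit 5,nat_lit 3,nat_lit 0,nat_lit 0,nat_lit 0,nat_lit 0,nat_lit 3])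
) (.leaf [nat_lit 7,nat_lit 4,nat_lit 1,nat_lit 0,nat_lit 2,nat_lit 1,nat_lit 1,nat_lit 1,nat_lit 2])
)) (.node (.node (.node (.leaf [nat_lit 8,nat_lit 2,nat_lit 0,nat_lit 3,nat_lit 0,nat_lit 3,nat_lit 0])
 (.leaf [nat_lit 7,nat_lit 2,nat_lit 0,nat_lit 2,nat_lit 0,nat_lit 0,nat_lit 0,nat_lit 2,nat_lit 0])
) (.leaf [nat_lit 10,nat_lit 5,nat_lit 1,nat_lit 3,nat_lit 1,nat_lit 1,nat_lit 1,nat_lit 1,nat_lit 4])
) (.node (.leaf [nat_lit 9,nat_lit 0,nat_lit 1,nat_lit 2,nat_lit 3,nat_lit 2,nat_lit 4])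
 (.leaf [nat_lit 10,nat_lit 4,nat_lit 1,nat_lit 3,nat_lit 4,nat_lit 1,nat_lit 1,nat_lit 1,nat_lit 1])
))) (.node (.node (.node (.node (.leaf [nat_lit 8,nat_lit 0,nat_lit 1,nat_lit 0,nat_lit 3,nat_lit 1,nat_lit 4])
 (.leaf [nat_lit 7,nat_lit 4,nat_lit 0,nat_lit 1,nat_lit 0,nat_lit 2,nat_lit 0,nat_lit 2,nat_lit 0])
) (.leaf [nat_lit 7,nat_lit 5,nat_lit 1,nat_lit 2,nat_lit 1,nat_lit 1,nat_lit 1,nat_lit 2,nat_lit 1])
) (.node (.leaf [nat_lit 9,nat_lit 2,nat_lit 1,nat_lit 2,nat_lit 4,nat_lit 2,nat_lit 3])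
 (.leaf [nat_lit 7,nat_lit 5,nat_lit 0,nat_lit 1,nat_lit 2,nat_lit 0,nat_lit 2,nat_lit 0,nat_lit 0])
)) (.node (.node (.node (.leaf [nat_lit 8,nat_lit 1,nat_lit 0,nat_lit 1,nat_lit 4,nat_lit 0,nat_lit 3])
 (.leaf [nat_lit 10,nat_lit 1,nat_lit 0,nat_lit 4,nat_lit 0,nat_lit 0,nat_lit 0,nat_lit 0,nat_lit 3])
) (.leaf [nat_lit 10,nat_lit 0,nat_lit 0,nat_lit 4,nat_lit 3,nat_lit 0,nat_lit 0,nat_lit 0,nat_lit 0])
) (.node (.leaf [nat_lit 9,nat_lit 1,nat_lit 1,nat_lit 4,nat_lit 2,nat_lit 4,nat_lit 2])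
 (.leaf [nat_lit 7,nat_lit 1,nat_lit 1,nat_lit 0,nat_lit 1,nat_lit 2,nat_lit 1,nat_lit 2,nat_lit 1])
))))

noncomputable def tN1_subs : LT :=
(.leaf [nat_lit 0,nat_lit 0,nat_lit 0,nat_lit 5])


noncomputable def tN1 : TC :=
  ⟨fun x c => Nat.shiftRight (BT.get tN1_t x) (Nat.mul (nat_lit 26) c),
  (nat_lit 6), (nat_lit 63), (nat_lit 131071), (nat_lit 17), (nat_lit 511), (nat_lit 131008), (nat_lit 32), (nat_lit 33), (nat_lit 5), (nat_lit 0), (nat_lit 5), (nat_lit 6), tN1_inv, tN1_rules, tN1_subs⟩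

theorem tN1_c1 : tN1.rules.all (ruleOK tN1.m tN1.inv tN1_rels) = true := by decide +kernel
theorem tN1_c2 : tN1.subs.all (subOK tN1.m tN1.inv tN1_hws) = true := by decide +kernel
theorem tN1_c3 : tN1.base = true := by decide +kernel

theorem tN1_s0 : tN1.slots (nat_lit 0) (nat_lit 33) = true := by decide +kernel

theorem tN1_e0 : allRange (nat_lit 32) (nat_lit 1) tN1.slotE = true := by decide +kernel

theorem tN1_c4 : tN1.Upto tN1.N := ((TC.upto_zero tN1).step _ tN1_s0)
theorem tN1_c5 : tN1.UptoE tN1.N := ((TC.uptoE_n tN1).step _ tN1_e0)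
theorem tN1_bound {G : Type*} [Group G] {g : ℕ → G} {H : Subgroup G} (hinv : ∀ x < 5, g x * g (tN1_inv x) = 1)
    (hrels : ∀ i, evalW g (tN1_rels.get i) = 1) (hH : ∀ x < 0, g x ∈ H) (hhws : ∀ i, evalW g (tN1_hws.get i) ∈ H) :
    H.relIndex (genLt g 5) ≠ 0 ∧ H.relIndex (genLt g 5) ≤ 32 :=
  TC.relIndex_le (T := tN1) hinv hrels hH hhws tN1_c1 tN1_c2 tN1_c3 tN1_c4 tN1_c5

theorem tN1_bd : Bound.{u} rN1 0 5 32 := fun _ _ _ _ hs hH =>
  tN1_bound (hs.hinv (by decide +kernel)) (hs.tree (by decide +kernel)) hH (leaf_nil_mem' _ _ (by decide +kernel))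

theorem presN1 : Pres.{u} rN1 5 32 := pres_nil.step tN1_bd (by decide +kernel)

noncomputable def cN1 : List ℕ := [(nat_lit 0x807060f0d020e04030a0b090c000501), (nat_lit 0xc090b030506040f0e0d0108070a0002), (nat_lit 0xf0e0d09020a0c0708010504030b0600), (nat_lit 0x50a040b090f020106080e000d0c0703), (nat_lit 0xa0503020c0e0b0601070f0d00090804)]

theorem cN1_ok : allL cN1 (permOK 16) = true := by decide +kernel

noncomputable def N1_t : ST :=
(.node (nat_lit 0x807060e00020f0304050b090c0d0a01) (.node (nat_lit 0x4030a070100080c090b0d0e0f060205) (.node (nat_lit 0x20b0c000f070d0a05030806010e0409) (.node (nat_lit 0x1060805040c0a000d0f09020b030e07) (.node (nat_lit 0xd0f060703010b0209040a05080c0e) (.leaf (nat_lit 0xd0f01080306020b0c040a0507090e) (nat_lit 771))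
 (.leaf (nat_lit 0xd0f060703010b0209040a05080c0e) (nat_lit 1027))
) (.node (nat_lit 0x106080a030c050d000e09020b040f07) (.leaf (nat_lit 0x1060805040c0a000d0f09020b030e07) (nat_lit 515))
 (.leaf (nat_lit 0x106080a030c050d000e09020b040f07) (nat_lit 772))
)) (.node (nat_lit 0x3040507010d080c090b000f0e06020a) (.node (nat_lit 0x20b0c0d0e0700050a040806010f0309) (.leaf (nat_lit 0x20b0c000f070d0a05030806010e0409) (nat_lit 516))
 (.leaf (nat_lit 0x20b0c0d0e0700050a040806010f0309) (nat_lit 771))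
) (.node (nat_lit 0x3040508060d07090c02000f0e010b0a) (.leaf (nat_lit 0x3040507010d080c090b000f0e06020a) (nat_lit 513))
 (.leaf (nat_lit 0x3040508060d07090c02000f0e010b0a) (nat_lit 768))
))) (.node (nat_lit 0x601070504090a000d0f0c0b02030e08) (.node (nat_lit 0x50a04020c0f0b0601070e000d090803) (.node (nat_lit 0x4030a08060007090c020d0e0f010b05) (.leaf (nat_lit 0x4030a070100080c090b0d0e0f060205) (nat_lit 770))
 (.leaf (nat_lit 0x4030a08060007090c020d0e0f010b05) (nat_lit 512))
) (.node (nat_lit 0x50a040b090f020106080e000d0c0703) (.leaf (nat_lit 0x50a04020c0f0b0601070e000d090803) (nat_lit 515))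
 (.leaf (nat_lit 0x50a040b090f020106080e000d0c0703) (nat_lit 259))
)) (.node (nat_lit 0x708010e000b0f030405020c090d0a06) (.node (nat_lit 0x601070a0309050d000e0c0b02040f08) (.leaf (nat_lit 0x601070504090a000d0f0c0b02030e08) (nat_lit 771))
 (.leaf (nat_lit 0x601070a0309050d000e0c0b02040f08) (nat_lit 516))
) (.node (nat_lit 0x708010f0d0b0e04030a020c09000506) (.leaf (nat_lit 0x708010e000b0f030405020c090d0a06) (nat_lit 771))
 (.leaf (nat_lit 0x708010f0d0b0e04030a020c09000506) (nat_lit 514))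
)))) (.node (nat_lit 0xc090b030506040f0e0d0108070a0002) (.node (nat_lit 0xa0503020c0e0b0601070f0d00090804) (.node (nat_lit 0x90c02030501040f0e0d0607080a000b) (.node (nat_lit 0x807060f0d020e04030a0b090c000501) (.leaf (nat_lit 0x807060e00020f0304050b090c0d0a01) (nat_lit 512))
 (.leaf (nat_lit 0x807060f0d020e04030a0b090c000501) (nat_lit 256))
) (.node (nat_lit 0x90c02040a01030e0f00060708050d0b) (.leaf (nat_lit 0x90c02030501040f0e0d0607080a000b) (nat_lit 514))
 (.leaf (nat_lit 0x90c02040a01030e0f00060708050d0b) (nat_lit 768))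
)) (.node (nat_lit 0xb0209000f080d0a05030701060e040c) (.node (nat_lit 0xa05030b090e020106080f0d000c0704) (.leaf (nat_lit 0xa0503020c0e0b0601070f0d00090804) (nat_lit 260))
 (.leaf (nat_lit 0xa05030b090e020106080f0d000c0704) (nat_lit 516))
) (.node (nat_lit 0xb02090d0e0800050a040701060f030c) (.leaf (nat_lit 0xb0209000f080d0a05030701060e040c) (nat_lit 772))
 (.leaf (nat_lit 0xb02090d0e0800050a040701060f030c) (nat_lit 515))
))) (.node (nat_lit 0xe0f000902050c0708010a03040b060d) (.node (nat_lit 0xd000e01080406020b0c03050a07090f) (.node (nat_lit 0xc090b040a06030e0f00010807050d02) (.leaf (nat_lit 0xc090b030506040f0e0d0108070a0002) (nat_lit 257))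
 (.leaf (nat_lit 0xc090b040a06030e0f00010807050d02) (nat_lit 513))
) (.node (nat_lit 0xd000e060704010b020903050a080c0f) (.leaf (nat_lit 0xd000e01080406020b0c03050a07090f) (nat_lit 1028))
 (.leaf (nat_lit 0xd000e060704010b020903050a080c0f) (nat_lit 772))
)) (.node (nat_lit 0xf0e0d09020a0c0708010504030b0600) (.node (nat_lit 0xe0f000c0b05090807060a030402010d) (.leaf (nat_lit 0xe0f000902050c0708010a03040b060d) (nat_lit 515))
 (.leaf (nat_lit 0xe0f000c0b05090807060a030402010d) (nat_lit 769))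
) (.node (nat_lit 0xf0e0d0c0b0a09080706050403020100) (.leaf (nat_lit 0xf0e0d09020a0c0708010504030b0600) (nat_lit 258))
 (.leaf (nat_lit 0xf0e0d0c0b0a09080706050403020100) (nat_lit 0))
)))))

theorem N1_ok : genOK A16 [(nat_lit 0x807060f0d020e04030a0b090c000501), (nat_lit 0xc090b030506040f0e0d0108070a0002), (nat_lit 0xf0e0d09020a0c0708010504030b0600), (nat_lit 0x50a040b090f020106080e000d0c0703), (nat_lit 0xa0503020c0e0b0601070f0d00090804)] N1_t (nat_lit 32) = true := by decide +kernel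

def r000 : List (List ℕ) := rN0 ++ (rG ++ (eB0 ++ eC0))

noncomputable def t000_rels : LT :=
(.node (.node (.node (.node (.node (.leaf [])
 (.leaf [nat_lit 3,nat_lit 5,nat_lit 3,nat_lit 5,nat_lit 2])
) (.leaf [nat_lit 0,nat_lit 0,nat_lit 0,nat_lit 0,nat_lit 0,nat_lit 0,nat_lit 0,nat_lit 0])
) (.node (.leaf [nat_lit 3,nat_lit 4])
 (.leaf [nat_lit 3,nat_lit 3])
)) (.node (.node (.leaf [nat_lit 1,nat_lit 0])
 (.leaf [nat_lit 3,nat_lit 0,nat_lit 4,nat_lit 0])
) (.node (.leaf [nat_lit 5,nat_lit 6])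
 (.leaf [nat_lit 5,nat_lit 2,nat_lit 6,nat_lit 2])
))) (.node (.node (.node (.leaf [nat_lit 0,nat_lit 1])
 (.leaf [nat_lit 2,nat_lit 0,nat_lit 2,nat_lit 0,nat_lit 0,nat_lit 0])
) (.node (.leaf [nat_lit 4,nat_lit 3])
 (.leaf [nat_lit 5,nat_lit 0,nat_lit 6,nat_lit 1,nat_lit 2])
)) (.node (.node (.leaf [nat_lit 2,nat_lit 2])
 (.leaf [nat_lit 3,nat_lit 2,nat_lit 4,nat_lit 2])
) (.node (.leaf [nat_lit 6,nat_lit 5])
 (.leaf [nat_lit 5,nat_lit 5])
))))
noncomputable def t000_hws : LT :=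
(.leaf [])

noncomputable def t000_inv : ℕ → ℕ := getP (nat_lit 8) (nat_lit 255) (nat_lit 0x5060304020001)

noncomputable def t000_t : BT :=
(.node (.node (.node (.node (.leaf (nat_lit 0x20a27000))
 (.leaf (nat_lit 0x10500000))
) (.leaf (nat_lit 0xd27020))
) (.node (.leaf (nat_lit 0x120927010))
 (.leaf (nat_lit 0x600041))
)) (.node (.node (.leaf (nat_lit 0xb27008))
 (.leaf (nat_lit 0x320702029))
) (.node (.leaf (nat_lit 0x220c27018))
 (.leaf (nat_lit 0x1ff00ff8))
)))

noncomputable def t000_rules : LT :=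
(.node (.node (.leaf [nat_lit 13,nat_lit 3,nat_lit 1,nat_lit 0,nat_lit 6,nat_lit 2,nat_lit 0,nat_lit 5])
 (.leaf [nat_lit 16,nat_lit 2,nat_lit 1,nat_lit 3,nat_lit 6,nat_lit 4,nat_lit 2,nat_lit 6])
) (.node (.leaf [nat_lit 14,nat_lit 2,nat_lit 1,nat_lit 2,nat_lit 6,nat_lit 2,nat_lit 5])
 (.leaf [nat_lit 15,nat_lit 0,nat_lit 1,nat_lit 5,nat_lit 6])
))

noncomputable def t000_subs : LT :=
(.leaf [nat_lit 0,nat_lit 0,nat_lit 0,nat_lit 7])


noncomputable def t000 : TC :=
  ⟨fun x c => Nat.shiftRight (BT.get t000_t x) (Nat.mul (nat_lit 17) c),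
  (nat_lit 3), (nat_lit 7), (nat_lit 4095), (nat_lit 12), (nat_lit 31), (nat_lit 4088), (nat_lit 2), (nat_lit 2), (nat_lit 7), (nat_lit 5), (nat_lit 7), (nat_lit 8), t000_inv, t000_rules, t000_subs⟩

theorem t000_c1 : t000.rules.all (ruleOK t000.m t000.inv t000_rels) = true := by decide +kernel
theorem t000_c2 : t000.subs.all (subOK t000.m t000.inv t000_hws) = true := by decide +kernel
theorem t000_c3 : t000.base = true := by decide +kernel

theorem t000_s0 : t000.slots (nat_lit 0) (nat_lit 2) = true := by decide +kernel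

theorem t000_c4 : t000.Upto t000.N := ((TC.upto_zero t000).step _ t000_s0)
theorem t000_c5 : t000.UptoE t000.N := (TC.uptoE_n t000)
theorem t000_bound {G : Type*} [Group G] {g : ℕ → G} {H : Subgroup G} (hinv : ∀ x < 7, g x * g (t000_inv x) = 1)
    (hrels : ∀ i, evalW g (t000_rels.get i) = 1) (hH : ∀ x < 5, g x ∈ H) (hhws : ∀ i, evalW g (t000_hws.get i) ∈ H) :
    H.relIndex (genLt g 7) ≠ 0 ∧ H.relIndex (genLt g 7) ≤ 2 :=
  TC.relIndex_le (T := t000) hinv hrels hH hhws t000_c1 t000_c2 t000_c3 t000_c4 t000_c5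

theorem t000_bd : Bound.{u} r000 5 7 2 := fun _ _ _ _ hs hH =>
  t000_bound (hs.hinv (by decide +kernel)) (hs.tree (by decide +kernel)) hH (leaf_nil_mem' _ _ (by decide +kernel))

theorem pres000 : Pres.{u} r000 7 64 := presN0.step t000_bd (by decide +kernel)

noncomputable def c000 : List ℕ := [(nat_lit 0xd070e05060f0c020b0308090a000401), (nat_lit 0xa0d0f09070304050e0b0c0106080002), (nat_lit 0xf0e060c0b0702080a0d010403090500), (nat_lit 0x80c050e0402070f09010d0b000a0603), (nat_lit 0x80c050e0402070f09010d0b000a0603), (nat_lit 0x80c090e04050d0f01020a0b00060703), (nat_lit 0x80c090e04050d0f01020a0b00060703)]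

theorem c000_ok : allL c000 (permOK 16) = true := by decide +kernel

noncomputable def P000_t : ST :=
(.node (nat_lit 0x80c010e04090a0f0205060b00070d03) (.node (nat_lit 0x400010308090a0b0205060f0c070d0e) (.node (nat_lit 0x20500070904030d080c0b06010e0f0a) (.node (nat_lit 0x102000605040307080c0b0a090e0f0d) (.node (nat_lit 0x8050b0c02070e09010d03040a060f) (.node (nat_lit 0x8020b0c01060e05090703040d0a0f) (.leaf (nat_lit 0x8010b0c090a0e0205060304070d0f) (nat_lit 1029))
 (.leaf (nat_lit 0x8020b0c01060e05090703040d0a0f) (nat_lit 771))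
) (.node (nat_lit 0x8090b0c050d0e01020a030406070f) (.leaf (nat_lit 0x8050b0c02070e09010d03040a060f) (nat_lit 773))
 (.leaf (nat_lit 0x8090b0c050d0e01020a030406070f) (nat_lit 1027))
)) (.node (nat_lit 0x102080605000b070c040e0a090f030d) (.node (nat_lit 0x1020406050c0f070008030a090b0e0d) (.leaf (nat_lit 0x102000605040307080c0b0a090e0f0d) (nat_lit 1027))
 (.leaf (nat_lit 0x1020406050c0f070008030a090b0e0d) (nat_lit 770))
) (.node (nat_lit 0x1020c0605080e0704000f0a09030b0d) (.leaf (nat_lit 0x102080605000b070c040e0a090f030d) (nat_lit 773))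
 (.leaf (nat_lit 0x1020c0605080e0704000f0a09030b0d) (nat_lit 771))
))) (.node (nat_lit 0x30f06040e07020c0a0d01000b090508) (.node (nat_lit 0x205080709000b0d0c040e06010f030a) (.node (nat_lit 0x2050407090c0f0d00080306010b0e0a) (.leaf (nat_lit 0x20500070904030d080c0b06010e0f0a) (nat_lit 768))
 (.leaf (nat_lit 0x2050407090c0f0d00080306010b0e0a) (nat_lit 771))
) (.node (nat_lit 0x2050c0709080e0d04000f0601030b0a) (.leaf (nat_lit 0x205080709000b0d0c040e06010f030a) (nat_lit 515))
 (.leaf (nat_lit 0x2050c0709080e0d04000f0601030b0a) (nat_lit 512))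
)) (.node (nat_lit 0x30f0a040e06010c0d0709000b050208) (.node (nat_lit 0x30f07040e0d050c060a02000b010908) (.leaf (nat_lit 0x30f06040e07020c0a0d01000b090508) (nat_lit 1029))
 (.leaf (nat_lit 0x30f07040e0d050c060a02000b010908) (nat_lit 768))
) (.node (nat_lit 0x30f0d040e0a090c070605000b020108) (.leaf (nat_lit 0x30f0a040e06010c0d0709000b050208) (nat_lit 513))
 (.leaf (nat_lit 0x30f0d040e0a090c070605000b020108) (nat_lit 1025))
)))) (.node (nat_lit 0x60a03010d0b00090f0e0402070c0805) (.node (nat_lit 0x509000d0104030a080c0b07020e0f06) (.node (nat_lit 0x40005030802070b09010d0f0c0a060e) (.node (nat_lit 0x40002030801060b0509070f0c0d0a0e) (.leaf (nat_lit 0x400010308090a0b0205060f0c070d0e) (nat_lit 1283))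
 (.leaf (nat_lit 0x40002030801060b0509070f0c0d0a0e) (nat_lit 1026))
) (.node (nat_lit 0x400090308050d0b01020a0f0c06070e) (.leaf (nat_lit 0x40005030802070b09010d0f0c0a060e) (nat_lit 1027))
 (.leaf (nat_lit 0x400090308050d0b01020a0f0c06070e) (nat_lit 769))
)) (.node (nat_lit 0x509080d01000b0a0c040e07020f0306) (.node (nat_lit 0x509040d010c0f0a00080307020b0e06) (.leaf (nat_lit 0x509000d0104030a080c0b07020e0f06) (nat_lit 771))
 (.leaf (nat_lit 0x509040d010c0f0a00080307020b0e06) (nat_lit 513))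
) (.node (nat_lit 0x5090c0d01080e0a04000f0702030b06) (.leaf (nat_lit 0x509080d01000b0a0c040e07020f0306) (nat_lit 517))
 (.leaf (nat_lit 0x5090c0d01080e0a04000f0702030b06) (nat_lit 515))
))) (.node (nat_lit 0x70603020a0b00010f0e04050d0c0809) (.node (nat_lit 0x60a0e010d0f0c090b03080207000405) (.node (nat_lit 0x60a0b010d0e0809030f000207040c05) (.leaf (nat_lit 0x60a03010d0b00090f0e0402070c0805) (nat_lit 769))
 (.leaf (nat_lit 0x60a0b010d0e0809030f000207040c05) (nat_lit 1029))
) (.node (nat_lit 0x60a0f010d0304090e0b0c0207080005) (.leaf (nat_lit 0x60a0e010d0f0c090b03080207000405) (nat_lit 514))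
 (.leaf (nat_lit 0x60a0f010d0304090e0b0c0207080005) (nat_lit 773))
)) (.node (nat_lit 0x7060e020a0f0c010b0308050d000409) (.node (nat_lit 0x7060b020a0e0801030f00050d040c09) (.leaf (nat_lit 0x70603020a0b00010f0e04050d0c0809) (nat_lit 1027))
 (.leaf (nat_lit 0x7060b020a0e0801030f00050d040c09) (nat_lit 768))
) (.node (nat_lit 0x7060f020a0304010e0b0c050d080009) (.leaf (nat_lit 0x7060e020a0f0c010b0308050d000409) (nat_lit 771))
 (.leaf (nat_lit 0x7060f020a0304010e0b0c050d080009) (nat_lit 514))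
))))) (.node (nat_lit 0xc04010f00090a030205060e08070d0b) (.node (nat_lit 0xa0d0309070b00050f0e0401060c0802) (.node (nat_lit 0x901000a02040306080c0b0d050e0f07) (.node (nat_lit 0x80c050e0402070f09010d0b000a0603) (.node (nat_lit 0x80c020e0401060f0509070b000d0a03) (.leaf (nat_lit 0x80c010e04090a0f0205060b00070d03) (nat_lit 515))
 (.leaf (nat_lit 0x80c020e0401060f0509070b000d0a03) (nat_lit 517))
) (.node (nat_lit 0x80c090e04050d0f01020a0b00060703) (.leaf (nat_lit 0x80c050e0402070f09010d0b000a0603) (nat_lit 259))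
 (.leaf (nat_lit 0x80c090e04050d0f01020a0b00060703) (nat_lit 261))
)) (.node (nat_lit 0x901080a02000b060c040e0d050f0307) (.node (nat_lit 0x901040a020c0f060008030d050b0e07) (.leaf (nat_lit 0x901000a02040306080c0b0d050e0f07) (nat_lit 773))
 (.leaf (nat_lit 0x901040a020c0f060008030d050b0e07) (nat_lit 1027))
) (.node (nat_lit 0x9010c0a02080e0604000f0d05030b07) (.leaf (nat_lit 0x901080a02000b060c040e0d050f0307) (nat_lit 771))
 (.leaf (nat_lit 0x9010c0a02080e0604000f0d05030b07) (nat_lit 517))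
))) (.node (nat_lit 0xb0306000f0702040a0d01080e09050c) (.node (nat_lit 0xa0d0e09070f0c050b03080106000402) (.node (nat_lit 0xa0d0b09070e0805030f000106040c02) (.leaf (nat_lit 0xa0d0309070b00050f0e0401060c0802) (nat_lit 769))
 (.leaf (nat_lit 0xa0d0b09070e0805030f000106040c02) (nat_lit 513))
) (.node (nat_lit 0xa0d0f09070304050e0b0c0106080002) (.leaf (nat_lit 0xa0d0e09070f0c050b03080106000402) (nat_lit 773))
 (.leaf (nat_lit 0xa0d0f09070304050e0b0c0106080002) (nat_lit 257))
)) (.node (nat_lit 0xb030a000f0601040d0709080e05020c) (.node (nat_lit 0xb0307000f0d0504060a02080e01090c) (.leaf (nat_lit 0xb0306000f0702040a0d01080e09050c) (nat_lit 1024))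
 (.leaf (nat_lit 0xb0307000f0d0504060a02080e01090c) (nat_lit 1027))
) (.node (nat_lit 0xb030d000f0a0904070605080e02010c) (.leaf (nat_lit 0xb030a000f0601040d0709080e05020c) (nat_lit 1025))
 (.leaf (nat_lit 0xb030d000f0a0904070605080e02010c) (nat_lit 769))
)))) (.node (nat_lit 0xe0b0608030702000a0d010c0f090504) (.node (nat_lit 0xd070305060b00020f0e04090a0c0801) (.node (nat_lit 0xc04050f0002070309010d0e080a060b) (.node (nat_lit 0xc04020f000106030509070e080d0a0b) (.leaf (nat_lit 0xc04010f00090a030205060e08070d0b) (nat_lit 773))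
 (.leaf (nat_lit 0xc04020f000106030509070e080d0a0b) (nat_lit 1027))
) (.node (nat_lit 0xc04090f00050d0301020a0e0806070b) (.leaf (nat_lit 0xc04050f0002070309010d0e080a060b) (nat_lit 768))
 (.leaf (nat_lit 0xc04090f00050d0301020a0e0806070b) (nat_lit 771))
)) (.node (nat_lit 0xd070e05060f0c020b0308090a000401) (.node (nat_lit 0xd070b05060e0802030f00090a040c01) (.leaf (nat_lit 0xd070305060b00020f0e04090a0c0801) (nat_lit 512))
 (.leaf (nat_lit 0xd070b05060e0802030f00090a040c01) (nat_lit 771))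
) (.node (nat_lit 0xd070f05060304020e0b0c090a080001) (.leaf (nat_lit 0xd070e05060f0c020b0308090a000401) (nat_lit 256))
 (.leaf (nat_lit 0xd070f05060304020e0b0c090a080001) (nat_lit 771))
))) (.node (nat_lit 0xf0e060c0b0702080a0d010403090500) (.node (nat_lit 0xe0b0a08030601000d07090c0f050204) (.node (nat_lit 0xe0b0708030d0500060a020c0f010904) (.leaf (nat_lit 0xe0b0608030702000a0d010c0f090504) (nat_lit 1027))
 (.leaf (nat_lit 0xe0b0708030d0500060a020c0f010904) (nat_lit 512))
) (.node (nat_lit 0xe0b0d08030a09000706050c0f020104) (.leaf (nat_lit 0xe0b0a08030601000d07090c0f050204) (nat_lit 770))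
 (.leaf (nat_lit 0xe0b0d08030a09000706050c0f020104) (nat_lit 1029))
)) (.node (nat_lit 0xf0e0a0c0b0601080d07090403050200) (.node (nat_lit 0xf0e070c0b0d0508060a020403010900) (.leaf (nat_lit 0xf0e060c0b0702080a0d010403090500) (nat_lit 258))
 (.leaf (nat_lit 0xf0e070c0b0d0508060a020403010900) (nat_lit 515))
) (.node (nat_lit 0xf0e0d0c0b0a09080706050403020100) (.leaf (nat_lit 0xf0e0a0c0b0601080d07090403050200) (nat_lit 517))
 (.leaf (nat_lit 0xf0e0d0c0b0a09080706050403020100) (nat_lit 0))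
))))))

theorem P000_ok : genOK A16 [(nat_lit 0xd070e05060f0c020b0308090a000401), (nat_lit 0xa0d0f09070304050e0b0c0106080002), (nat_lit 0xf0e060c0b0702080a0d010403090500), (nat_lit 0x80c050e0402070f09010d0b000a0603), (nat_lit 0x80c050e0402070f09010d0b000a0603), (nat_lit 0x80c090e04050d0f01020a0b00060703), (nat_lit 0x80c090e04050d0f01020a0b00060703)] P000_t (nat_lit 64) = true := by decide +kernel

def r001 : List (List ℕ) := rN0 ++ (rG ++ (eB0 ++ eC1))

noncomputable def t001_rels : LT :=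
(.node (.node (.node (.node (.node (.leaf [])
 (.leaf [nat_lit 3,nat_lit 5,nat_lit 3,nat_lit 5,nat_lit 1,nat_lit 1,nat_lit 2])
) (.leaf [nat_lit 0,nat_lit 0,nat_lit 0,nat_lit 0,nat_lit 0,nat_lit 0,nat_lit 0,nat_lit 0])
) (.node (.leaf [nat_lit 3,nat_lit 4])
 (.leaf [nat_lit 3,nat_lit 3])
)) (.node (.node (.leaf [nat_lit 1,nat_lit 0])
 (.leaf [nat_lit 3,nat_lit 0,nat_lit 4,nat_lit 0])
) (.node (.leaf [nat_lit 5,nat_lit 6])
 (.leaf [nat_lit 5,nat_lit 2,nat_lit 6,nat_lit 2])
))) (.node (.node (.node (.leaf [nat_lit 0,nat_lit 1])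
 (.leaf [nat_lit 2,nat_lit 0,nat_lit 2,nat_lit 0,nat_lit 0,nat_lit 0])
) (.node (.leaf [nat_lit 4,nat_lit 3])
 (.leaf [nat_lit 5,nat_lit 0,nat_lit 6,nat_lit 1,nat_lit 2])
)) (.node (.node (.leaf [nat_lit 2,nat_lit 2])
 (.leaf [nat_lit 3,nat_lit 2,nat_lit 4,nat_lit 2])
) (.node (.leaf [nat_lit 6,nat_lit 5])
 (.leaf [nat_lit 5,nat_lit 5])
))))
noncomputable def t001_hws : LT :=
(.leaf [])

noncomputable def t001_inv : ℕ → ℕ := getP (nat_lit 8) (nat_lit 255) (nat_lit 0x5060304020001)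

noncomputable def t001_t : BT :=
(.node (.node (.node (.node (.leaf (nat_lit 0x20a27000))
 (.leaf (nat_lit 0x10500000))
) (.leaf (nat_lit 0xd27020))
) (.node (.leaf (nat_lit 0x120927010))
 (.leaf (nat_lit 0x600041))
)) (.node (.node (.leaf (nat_lit 0xb27008))
 (.leaf (nat_lit 0x320702029))
) (.node (.leaf (nat_lit 0x220c27018))
 (.leaf (nat_lit 0x1ff00ff8))
)))

noncomputable def t001_rules : LT :=
(.node (.node (.leaf [nat_lit 13,nat_lit 3,nat_lit 1,nat_lit 0,nat_lit 6,nat_lit 2,nat_lit 0,nat_lit 5])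
 (.leaf [nat_lit 16,nat_lit 4,nat_lit 1,nat_lit 3,nat_lit 6,nat_lit 4,nat_lit 2,nat_lit 0,nat_lit 0,nat_lit 6])
) (.node (.leaf [nat_lit 14,nat_lit 2,nat_lit 1,nat_lit 2,nat_lit 6,nat_lit 2,nat_lit 5])
 (.leaf [nat_lit 15,nat_lit 0,nat_lit 1,nat_lit 5,nat_lit 6])
))

noncomputable def t001_subs : LT :=
(.leaf [nat_lit 0,nat_lit 0,nat_lit 0,nat_lit 7])


noncomputable def t001 : TC :=
  ⟨fun x c => Nat.shiftRight (BT.get t001_t x) (Nat.mul (nat_lit 17) c),
  (nat_lit 3), (nat_lit 7), (nat_lit 4095), (nat_lit 12), (nat_lit 31), (nat_lit 4088), (nat_lit 2), (nat_lit 2), (nat_lit 7), (nat_lit 5), (nat_lit 7), (nat_lit 8), t001_inv, t001_rules, t001_subs⟩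

theorem t001_c1 : t001.rules.all (ruleOK t001.m t001.inv t001_rels) = true := by decide +kernel
theorem t001_c2 : t001.subs.all (subOK t001.m t001.inv t001_hws) = true := by decide +kernel
theorem t001_c3 : t001.base = true := by decide +kernel

theorem t001_s0 : t001.slots (nat_lit 0) (nat_lit 2) = true := by decide +kernel

theorem t001_c4 : t001.Upto t001.N := ((TC.upto_zero t001).step _ t001_s0)
theorem t001_c5 : t001.UptoE t001.N := (TC.uptoE_n t001)
theorem t001_bound {G : Type*} [Group G] {g : ℕ → G} {H : Subgroup G} (hinv : ∀ x < 7, g x * g (t001_inv x) = 1)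
    (hrels : ∀ i, evalW g (t001_rels.get i) = 1) (hH : ∀ x < 5, g x ∈ H) (hhws : ∀ i, evalW g (t001_hws.get i) ∈ H) :
    H.relIndex (genLt g 7) ≠ 0 ∧ H.relIndex (genLt g 7) ≤ 2 :=
  TC.relIndex_le (T := t001) hinv hrels hH hhws t001_c1 t001_c2 t001_c3 t001_c4 t001_c5

theorem t001_bd : Bound.{u} r001 5 7 2 := fun _ _ _ _ hs hH =>
  t001_bound (hs.hinv (by decide +kernel)) (hs.tree (by decide +kernel)) hH (leaf_nil_mem' _ _ (by decide +kernel))

theorem pres001 : Pres.{u} r001 7 64 := presN0.step t001_bd (by decide +kernel)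

noncomputable def c001 : List ℕ := [(nat_lit 0xe0605090f0b030d020c07080a000401), (nat_lit 0xb0f08060a030c04050e0d0109070002), (nat_lit 0x90e0d0c0b060f02070a010403080500), (nat_lit 0x90c0d0e030a0f05040608070b010200), (nat_lit 0x90c0d0e030a0f05040608070b010200), (nat_lit 0x80d0e040705020f0b010a0c00090603), (nat_lit 0x80d0e040705020f0b010a0c00090603)]

theorem c001_ok : allL c001 (permOK 16) = true := by decide +kernel

noncomputable def P001_t : ST :=
(.node (nat_lit 0x80003070405020f0c010a0b0d09060e) (.node (nat_lit 0x4010f080200070e060d0c0a05030b09) (.node (nat_lit 0x2000307040108090c05060b0d0f0a0e) (.node (nat_lit 0x1000b040702050f0e0806030d090a0c) (.node (nat_lit 0x5060802040d030f070c09010e0b0a) (.node (nat_lit 0x20a0105070d0b0f040e09080c0306) (.leaf (nat_lit 0x10a0208040d0309070c0f050e0b06) (nat_lit 773))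
 (.leaf (nat_lit 0x20a0105070d0b0f040e09080c0306) (nat_lit 773))
) (.node (nat_lit 0x8060501070d0b09040e0f020c030a) (.leaf (nat_lit 0x5060802040d030f070c09010e0b0a) (nat_lit 768))
 (.leaf (nat_lit 0x8060501070d0b09040e0f020c030a) (nat_lit 768))
)) (.node (nat_lit 0x1070c0d0008050a0e02090304060f0b) (.node (nat_lit 0x1040b000d08050a0302090e07060f0c) (.leaf (nat_lit 0x1000b040702050f0e0806030d090a0c) (nat_lit 1025))
 (.leaf (nat_lit 0x1040b000d08050a0302090e07060f0c) (nat_lit 773))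
) (.node (nat_lit 0x10d0c070402050f0308060e00090a0b) (.leaf (nat_lit 0x1070c0d0008050a0e02090304060f0b) (nat_lit 771))
 (.leaf (nat_lit 0x10d0c070402050f0308060e00090a0b) (nat_lit 771))
))) (.node (nat_lit 0x30605090f0c0e00020b04080a0d0701) (.node (nat_lit 0x20703000d05080a0b010f0c0406090e) (.node (nat_lit 0x2040e0d0005080a0c010f0b07060903) (.leaf (nat_lit 0x2000307040108090c05060b0d0f0a0e) (nat_lit 1026))
 (.leaf (nat_lit 0x2040e0d0005080a0c010f0b07060903) (nat_lit 517))
) (.node (nat_lit 0x20d0e04070108090b05060c000f0a03) (.leaf (nat_lit 0x20703000d05080a0b010f0c0406090e) (nat_lit 1027))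
 (.leaf (nat_lit 0x20d0e04070108090b05060c000f0a03) (nat_lit 517))
)) (.node (nat_lit 0x30a010f090c0e00080b0402060d0705) (.node (nat_lit 0x30905060a0b0e07080c0d020f040001) (.leaf (nat_lit 0x30605090f0c0e00020b04080a0d0701) (nat_lit 512))
 (.leaf (nat_lit 0x30905060a0b0e07080c0d020f040001) (nat_lit 515))
) (.node (nat_lit 0x30f010a060b0e07020c0d0809040005) (.leaf (nat_lit 0x30a010f090c0e00080b0402060d0705) (nat_lit 769))
 (.leaf (nat_lit 0x30f010a060b0e07020c0d0809040005) (nat_lit 771))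
)))) (.node (nat_lit 0x603070c0b090a080d0f01000e020504) (.node (nat_lit 0x5000b04070801090e020a030d0f060c) (.node (nat_lit 0x40509020800070e0a0d0c0601030b0f) (.node (nat_lit 0x4020905010d070b0600030a080c0e0f) (.leaf (nat_lit 0x4010f080200070e060d0c0a05030b09) (nat_lit 773))
 (.leaf (nat_lit 0x4020905010d070b0600030a080c0e0f) (nat_lit 770))
) (.node (nat_lit 0x4080f01050d070b0a000306020c0e09) (.leaf (nat_lit 0x40509020800070e0a0d0c0601030b0f) (nat_lit 771))
 (.leaf (nat_lit 0x4080f01050d070b0a000306020c0e09) (nat_lit 513))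
)) (.node (nat_lit 0x5070c0d000201060e080f03040a090b) (.node (nat_lit 0x5040b000d02010603080f0e070a090c) (.leaf (nat_lit 0x5000b04070801090e020a030d0f060c) (nat_lit 1027))
 (.leaf (nat_lit 0x5040b000d02010603080f0e070a090c) (nat_lit 768))
) (.node (nat_lit 0x50d0c070408010903020a0e000f060b) (.leaf (nat_lit 0x5070c0d000201060e080f03040a090b) (nat_lit 773))
 (.leaf (nat_lit 0x50d0c070408010903020a0e000f060b) (nat_lit 515))
))) (.node (nat_lit 0x7010f08020d040306000b0a050e0c09) (.node (nat_lit 0x60c07030e0f0a050009020d0b010804) (.node (nat_lit 0x60b040e030f0a050d0902000c010807) (.leaf (nat_lit 0x603070c0b090a080d0f01000e020504) (nat_lit 1027))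
 (.leaf (nat_lit 0x60b040e030f0a050d0902000c010807) (nat_lit 768))
) (.node (nat_lit 0x60e040b0c090a08000f010d03020507) (.leaf (nat_lit 0x60c07030e0f0a050009020d0b010804) (nat_lit 512))
 (.leaf (nat_lit 0x60e040b0c090a08000f010d03020507) (nat_lit 771))
)) (.node (nat_lit 0x7050902080d04030a000b06010e0c0f) (.node (nat_lit 0x70209050100040c060d0e0a080b030f) (.leaf (nat_lit 0x7010f08020d040306000b0a050e0c09) (nat_lit 769))
 (.leaf (nat_lit 0x70209050100040c060d0e0a080b030f) (nat_lit 773))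
) (.node (nat_lit 0x7080f010500040c0a0d0e06020b0309) (.leaf (nat_lit 0x7050902080d04030a000b06010e0c0f) (nat_lit 771))
 (.leaf (nat_lit 0x7080f010500040c0a0d0e06020b0309) (nat_lit 517))
))))) (.node (nat_lit 0xc06080f09030b0d010e04050a000702) (.node (nat_lit 0xa03070c0b0f06020d0905000e080104) (.node (nat_lit 0x903000b0c060f02040a01070e08050d) (.node (nat_lit 0x80703000d0102060b05090c040a0f0e) (.node (nat_lit 0x8040e0d000102060c05090b070a0f03) (.leaf (nat_lit 0x80003070405020f0c010a0b0d09060e) (nat_lit 769))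
 (.leaf (nat_lit 0x8040e0d000102060c05090b070a0f03) (nat_lit 773))
) (.node (nat_lit 0x80d0e040705020f0b010a0c00090603) (.leaf (nat_lit 0x80703000d0102060b05090c040a0f0e) (nat_lit 1027))
 (.leaf (nat_lit 0x80d0e040705020f0b010a0c00090603) (nat_lit 261))
)) (.node (nat_lit 0x90c0d0e030a0f05040608070b010200) (.node (nat_lit 0x90b00030e0a0f05070608040c01020d) (.leaf (nat_lit 0x903000b0c060f02040a01070e08050d) (nat_lit 1024))
 (.leaf (nat_lit 0x90b00030e0a0f05070608040c01020d) (nat_lit 1027))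
) (.node (nat_lit 0x90e0d0c0b060f02070a010403080500) (.leaf (nat_lit 0x90c0d0e030a0f05040608070b010200) (nat_lit 259))
 (.leaf (nat_lit 0x90e0d0c0b060f02070a010403080500) (nat_lit 258))
))) (.node (nat_lit 0xb06080f090e0c00010307050a0d0402) (.node (nat_lit 0xa0c07030e090601000f080d0b050204) (.node (nat_lit 0xa0b040e030906010d0f08000c050207) (.leaf (nat_lit 0xa03070c0b0f06020d0905000e080104) (nat_lit 771))
 (.leaf (nat_lit 0xa0b040e030906010d0f08000c050207) (nat_lit 513))
) (.node (nat_lit 0xa0e040b0c0f06020009050d03080107) (.leaf (nat_lit 0xa0c07030e090601000f080d0b050204) (nat_lit 770))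
 (.leaf (nat_lit 0xa0e040b0c0f06020009050d03080107) (nat_lit 773))
)) (.node (nat_lit 0xb0a02090f0e0c0005030701060d0408) (.node (nat_lit 0xb09020a06030c04010e0d050f070008) (.leaf (nat_lit 0xb06080f090e0c00010307050a0d0402) (nat_lit 771))
 (.leaf (nat_lit 0xb09020a06030c04010e0d050f070008) (nat_lit 514))
) (.node (nat_lit 0xb0f08060a030c04050e0d0109070002) (.leaf (nat_lit 0xb0a02090f0e0c0005030701060d0408) (nat_lit 1027))
 (.leaf (nat_lit 0xb0f08060a030c04050e0d0109070002) (nat_lit 257))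
)))) (.node (nat_lit 0xe0605090f0b030d020c07080a000401) (.node (nat_lit 0xd010a020807000e09040b0f05030c06) (.node (nat_lit 0xc0a02090f030b0d050e040106000708) (.node (nat_lit 0xc09020a060e0b07010300050f040d08) (.leaf (nat_lit 0xc06080f09030b0d010e04050a000702) (nat_lit 515))
 (.leaf (nat_lit 0xc09020a060e0b07010300050f040d08) (nat_lit 768))
) (.node (nat_lit 0xc0f08060a0e0b070503000109040d02) (.leaf (nat_lit 0xc0a02090f030b0d050e040106000708) (nat_lit 771))
 (.leaf (nat_lit 0xc0f08060a0e0b070503000109040d02) (nat_lit 513))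
)) (.node (nat_lit 0xd0506080207000e0f040b0901030c0a) (.node (nat_lit 0xd020a010504000c0f070309080b0e06) (.leaf (nat_lit 0xd010a020807000e09040b0f05030c06) (nat_lit 517))
 (.leaf (nat_lit 0xd020a010504000c0f070309080b0e06) (nat_lit 771))
) (.node (nat_lit 0xd0806050104000c0907030f020b0e0a) (.leaf (nat_lit 0xd0506080207000e0f040b0901030c0a) (nat_lit 512))
 (.leaf (nat_lit 0xd0806050104000c0907030f020b0e0a) (nat_lit 771))
))) (.node (nat_lit 0xf03000b0c0a0908040605070e02010d) (.node (nat_lit 0xe0a010f090b030d080c070206000405) (.node (nat_lit 0xe0905060a0c0304080b00020f070d01) (.leaf (nat_lit 0xe0605090f0b030d020c07080a000401) (nat_lit 256))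
 (.leaf (nat_lit 0xe0905060a0c0304080b00020f070d01) (nat_lit 771))
) (.node (nat_lit 0xe0f010a060c0304020b000809070d05) (.leaf (nat_lit 0xe0a010f090b030d080c070206000405) (nat_lit 514))
 (.leaf (nat_lit 0xe0f010a060c0304020b000809070d05) (nat_lit 1027))
)) (.node (nat_lit 0xf0c0d0e03060901040a02070b050800) (.node (nat_lit 0xf0b00030e060901070a02040c05080d) (.leaf (nat_lit 0xf03000b0c0a0908040605070e02010d) (nat_lit 769))
 (.leaf (nat_lit 0xf0b00030e060901070a02040c05080d) (nat_lit 1283))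
) (.node (nat_lit 0xf0e0d0c0b0a09080706050403020100) (.leaf (nat_lit 0xf0c0d0e03060901040a02070b050800) (nat_lit 515))
 (.leaf (nat_lit 0xf0e0d0c0b0a09080706050403020100) (nat_lit 0))
))))))

theorem P001_ok : genOK A16 [(nat_lit 0xe0605090f0b030d020c07080a000401), (nat_lit 0xb0f08060a030c04050e0d0109070002), (nat_lit 0x90e0d0c0b060f02070a010403080500), (nat_lit 0x90c0d0e030a0f05040608070b010200), (nat_lit 0x90c0d0e030a0f05040608070b010200), (nat_lit 0x80d0e040705020f0b010a0c00090603), (nat_lit 0x80d0e040705020f0b010a0c00090603)] P001_t (nat_lit 64) = true := by decide +kernel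

def r010 : List (List ℕ) := rN0 ++ (rG ++ (eB1 ++ eC0))

noncomputable def t010_rels : LT :=
(.node (.node (.node (.node (.node (.leaf [])
 (.leaf [nat_lit 3,nat_lit 5,nat_lit 3,nat_lit 5,nat_lit 2])
) (.leaf [nat_lit 0,nat_lit 0,nat_lit 0,nat_lit 0,nat_lit 0,nat_lit 0,nat_lit 0,nat_lit 0])
) (.node (.leaf [nat_lit 3,nat_lit 4])
 (.leaf [nat_lit 3,nat_lit 3])
)) (.node (.node (.leaf [nat_lit 1,nat_lit 0])
 (.leaf [nat_lit 3,nat_lit 0,nat_lit 4,nat_lit 0])
) (.node (.leaf [nat_lit 5,nat_lit 6])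
 (.leaf [nat_lit 5,nat_lit 2,nat_lit 6,nat_lit 2])
))) (.node (.node (.node (.leaf [nat_lit 0,nat_lit 1])
 (.leaf [nat_lit 2,nat_lit 0,nat_lit 2,nat_lit 0,nat_lit 0,nat_lit 0])
) (.node (.leaf [nat_lit 4,nat_lit 3])
 (.leaf [nat_lit 5,nat_lit 0,nat_lit 6,nat_lit 1,nat_lit 2])
)) (.node (.node (.leaf [nat_lit 2,nat_lit 2])
 (.leaf [nat_lit 3,nat_lit 2,nat_lit 4,nat_lit 2])
) (.node (.leaf [nat_lit 6,nat_lit 5])
 (.leaf [nat_lit 5,nat_lit 5,nat_lit 0,nat_lit 0,nat_lit 0,nat_lit 0])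
))))
noncomputable def t010_hws : LT :=
(.leaf [])

noncomputable def t010_inv : ℕ → ℕ := getP (nat_lit 8) (nat_lit 255) (nat_lit 0x5060304020001)

noncomputable def t010_t : BT :=
(.node (.node (.node (.node (.leaf (nat_lit 0x20827000))
 (.leaf (nat_lit 0x10500000))
) (.leaf (nat_lit 0xd27020))
) (.node (.leaf (nat_lit 0x120727010))
 (.leaf (nat_lit 0x600059))
)) (.node (.node (.leaf (nat_lit 0x927008))
 (.leaf (nat_lit 0x320a02029))
) (.node (.leaf (nat_lit 0x220c27018))
 (.leaf (nat_lit 0x1ff00ff8))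
)))

noncomputable def t010_rules : LT :=
(.node (.node (.leaf [nat_lit 13,nat_lit 3,nat_lit 1,nat_lit 0,nat_lit 6,nat_lit 2,nat_lit 0,nat_lit 5])
 (.leaf [nat_lit 16,nat_lit 4,nat_lit 1,nat_lit 3,nat_lit 2,nat_lit 6,nat_lit 4,nat_lit 6])
) (.node (.leaf [nat_lit 14,nat_lit 2,nat_lit 1,nat_lit 2,nat_lit 6,nat_lit 2,nat_lit 5])
 (.leaf [nat_lit 15,nat_lit 4,nat_lit 1,nat_lit 5,nat_lit 6,nat_lit 1,nat_lit 1,nat_lit 1,nat_lit 1])
))

noncomputable def t010_subs : LT :=
(.leaf [nat_lit 0,nat_lit 0,nat_lit 0,nat_lit 7])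


noncomputable def t010 : TC :=
  ⟨fun x c => Nat.shiftRight (BT.get t010_t x) (Nat.mul (nat_lit 17) c),
  (nat_lit 3), (nat_lit 7), (nat_lit 4095), (nat_lit 12), (nat_lit 31), (nat_lit 4088), (nat_lit 2), (nat_lit 2), (nat_lit 7), (nat_lit 5), (nat_lit 7), (nat_lit 8), t010_inv, t010_rules, t010_subs⟩

theorem t010_c1 : t010.rules.all (ruleOK t010.m t010.inv t010_rels) = true := by decide +kernel
theorem t010_c2 : t010.subs.all (subOK t010.m t010.inv t010_hws) = true := by decide +kernel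
theorem t010_c3 : t010.base = true := by decide +kernel

theorem t010_s0 : t010.slots (nat_lit 0) (nat_lit 2) = true := by decide +kernel

theorem t010_c4 : t010.Upto t010.N := ((TC.upto_zero t010).step _ t010_s0)
theorem t010_c5 : t010.UptoE t010.N := (TC.uptoE_n t010)
theorem t010_bound {G : Type*} [Group G] {g : ℕ → G} {H : Subgroup G} (hinv : ∀ x < 7, g x * g (t010_inv x) = 1)
    (hrels : ∀ i, evalW g (t010_rels.get i) = 1) (hH : ∀ x < 5, g x ∈ H) (hhws : ∀ i, evalW g (t010_hws.get i) ∈ H) :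
    H.relIndex (genLt g 7) ≠ 0 ∧ H.relIndex (genLt g 7) ≤ 2 :=
  TC.relIndex_le (T := t010) hinv hrels hH hhws t010_c1 t010_c2 t010_c3 t010_c4 t010_c5

theorem t010_bd : Bound.{u} r010 5 7 2 := fun _ _ _ _ hs hH =>
  t010_bound (hs.hinv (by decide +kernel)) (hs.tree (by decide +kernel)) hH (leaf_nil_mem' _ _ (by decide +kernel))

theorem pres010 : Pres.{u} r010 7 64 := presN0.step t010_bd (by decide +kernel)

noncomputable def c010 : List ℕ := [(nat_lit 0xc0706040d020e0f030a0b0908000501), (nat_lit 0x8090b0f050604030e0d010c070a0002), (nat_lit 0xf0e0d07020a08090c010504030b0600), (nat_lit 0xa050406090f0b02010c0e0d00080703), (nat_lit 0xa050406090f0b02010c0e0d00080703), (nat_lit 0xa05030b070e010602090f0d000c0804), (nat_lit 0x50a04020c0f06010b080e000d070903)]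

theorem c010_ok : allL c010 (permOK 16) = true := by decide +kernel

noncomputable def P010_t : ST :=
(.node (nat_lit 0x80902030d010f0e040a060c0700050b) (.node (nat_lit 0x40305070b0d08090c06000e0f02010a) (.node (nat_lit 0x20b080004070a050d0f0c0601030e09) (.node (nat_lit 0x106070003090a050d0e08020b040f0c) (.node (nat_lit 0xd0f010903020b060c040a0508070e) (.node (nat_lit 0xd0e0b0c0401060208030a0507090f) (.leaf (nat_lit 0xd0e02070406010b09030a050c080f) (nat_lit 771))
 (.leaf (nat_lit 0xd0e0b0c0401060208030a0507090f) (nat_lit 1027))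
) (.node (nat_lit 0xd0f0608030b020107040a05090c0e) (.leaf (nat_lit 0xd0f010903020b060c040a0508070e) (nat_lit 768))
 (.leaf (nat_lit 0xd0f0608030b020107040a05090c0e) (nat_lit 774))
)) (.node (nat_lit 0x1060c050e08000d0a0409020b0f0307) (.node (nat_lit 0x106070d0409050a000f08020b030e0c) (.leaf (nat_lit 0x106070003090a050d0e08020b040f0c) (nat_lit 1029))
 (.leaf (nat_lit 0x106070d0409050a000f08020b030e0c) (nat_lit 771))
) (.node (nat_lit 0x1060c0a0f080d00050309020b0e0407) (.leaf (nat_lit 0x1060c050e08000d0a0409020b0f0307) (nat_lit 518))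
 (.leaf (nat_lit 0x1060c0a0f080d00050309020b0e0407) (nat_lit 513))
))) (.node (nat_lit 0x3040508010d0c07090b000f0e06020a) (.node (nat_lit 0x20b09050f0c000d0a030706010e0408) (.node (nat_lit 0x20b080d0307050a000e0c0601040f09) (.leaf (nat_lit 0x20b080004070a050d0f0c0601030e09) (nat_lit 518))
 (.leaf (nat_lit 0x20b080d0307050a000e0c0601040f09) (nat_lit 512))
) (.node (nat_lit 0x20b090a0e0c0d0005040706010f0308) (.leaf (nat_lit 0x20b09050f0c000d0a030706010e0408) (nat_lit 771))
 (.leaf (nat_lit 0x20b090a0e0c0d0005040706010f0308) (nat_lit 515))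
)) (.node (nat_lit 0x3040a070b0008090c060d0f0e020105) (.node (nat_lit 0x3040509060d070c0802000f0e010b0a) (.leaf (nat_lit 0x3040508010d0c07090b000f0e06020a) (nat_lit 513))
 (.leaf (nat_lit 0x3040509060d070c0802000f0e010b0a) (nat_lit 768))
) (.node (nat_lit 0x3040a0c0200090807010d0f0e0b0605) (.leaf (nat_lit 0x3040a070b0008090c060d0f0e020105) (nat_lit 1029))
 (.leaf (nat_lit 0x3040a0c0200090807010d0f0e0b0605) (nat_lit 1027))
)))) (.node (nat_lit 0x60107050e09000d0a04080b020f030c) (.node (nat_lit 0x50a0301080e020b06070f000d090c04) (.node (nat_lit 0x4030a0801000c07090b0d0e0f060205) (.node (nat_lit 0x403050c020d09080701000e0f0b060a) (.leaf (nat_lit 0x40305070b0d08090c06000e0f02010a) (nat_lit 1027))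
 (.leaf (nat_lit 0x403050c020d09080701000e0f0b060a) (nat_lit 1030))
) (.node (nat_lit 0x4030a090600070c08020d0e0f010b05) (.leaf (nat_lit 0x4030a0801000c07090b0d0e0f060205) (nat_lit 770))
 (.leaf (nat_lit 0x4030a090600070c08020d0e0f010b05) (nat_lit 512))
)) (.node (nat_lit 0x50a04020c0f06010b080e000d070903) (.node (nat_lit 0x50a0306090e0b02010c0f000d080704) (.leaf (nat_lit 0x50a0301080e020b06070f000d090c04) (nat_lit 773))
 (.leaf (nat_lit 0x50a0306090e0b02010c0f000d080704) (nat_lit 774))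
) (.node (nat_lit 0x50a040b070f010602090e000d0c0803) (.leaf (nat_lit 0x50a04020c0f06010b080e000d070903) (nat_lit 262))
 (.leaf (nat_lit 0x50a040b070f010602090e000d0c0803) (nat_lit 518))
))) (.node (nat_lit 0x70c0103000b0f0e04050208090d0a06) (.node (nat_lit 0x6010c0003080a050d0e090b02040f07) (.node (nat_lit 0x601070a0f090d000503080b020e040c) (.leaf (nat_lit 0x60107050e09000d0a04080b020f030c) (nat_lit 513))
 (.leaf (nat_lit 0x601070a0f090d000503080b020e040c) (nat_lit 517))
) (.node (nat_lit 0x6010c0d0408050a000f090b02030e07) (.leaf (nat_lit 0x6010c0003080a050d0e090b02040f07) (nat_lit 771))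
 (.leaf (nat_lit 0x6010c0d0408050a000f090b02030e07) (nat_lit 515))
)) (.node (nat_lit 0x70c060e050203040f0d0b08090a0001) (.node (nat_lit 0x70c01040d0b0e0f030a020809000506) (.leaf (nat_lit 0x70c0103000b0f0e04050208090d0a06) (nat_lit 773))
 (.leaf (nat_lit 0x70c01040d0b0e0f030a020809000506) (nat_lit 514))
) (.node (nat_lit 0x70c060f0a0204030e000b0809050d01) (.leaf (nat_lit 0x70c060e050203040f0d0b08090a0001) (nat_lit 771))
 (.leaf (nat_lit 0x70c060f0a0204030e000b0809050d01) (nat_lit 774))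
))))) (.node (nat_lit 0xc07010e050b03040f0d0209080a0006) (.node (nat_lit 0xa0503020c0e06010b080f0d00070904) (.node (nat_lit 0x908020e0a0103040f0006070c050d0b) (.node (nat_lit 0x8090b0e0a0603040f00010c07050d02) (.node (nat_lit 0x809020400010e0f0305060c070d0a0b) (.leaf (nat_lit 0x80902030d010f0e040a060c0700050b) (nat_lit 771))
 (.leaf (nat_lit 0x809020400010e0f0305060c070d0a0b) (nat_lit 774))
) (.node (nat_lit 0x8090b0f050604030e0d010c070a0002) (.leaf (nat_lit 0x8090b0e0a0603040f00010c07050d02) (nat_lit 513))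
 (.leaf (nat_lit 0x8090b0f050604030e0d010c070a0002) (nat_lit 257))
)) (.node (nat_lit 0x9080b030d060f0e040a01070c000502) (.node (nat_lit 0x908020f050104030e0d06070c0a000b) (.leaf (nat_lit 0x908020e0a0103040f0006070c050d0b) (nat_lit 768))
 (.leaf (nat_lit 0x908020f050104030e0d06070c0a000b) (nat_lit 514))
) (.node (nat_lit 0x9080b0400060e0f030501070c0d0a02) (.leaf (nat_lit 0x9080b030d060f0e040a01070c000502) (nat_lit 773))
 (.leaf (nat_lit 0x9080b0400060e0f030501070c0d0a02) (nat_lit 771))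
))) (.node (nat_lit 0xb0208050f07000d0a030c01060e0409) (.node (nat_lit 0xa050401080f020b06070e0d00090c03) (.node (nat_lit 0xa05030b070e010602090f0d000c0804) (.leaf (nat_lit 0xa0503020c0e06010b080f0d00070904) (nat_lit 517))
 (.leaf (nat_lit 0xa05030b070e010602090f0d000c0804) (nat_lit 261))
) (.node (nat_lit 0xa050406090f0b02010c0e0d00080703) (.leaf (nat_lit 0xa050401080f020b06070e0d00090c03) (nat_lit 515))
 (.leaf (nat_lit 0xa050406090f0b02010c0e0d00080703) (nat_lit 259))
)) (.node (nat_lit 0xb020900040c0a050d0f070106030e08) (.node (nat_lit 0xb02080a0e070d0005040c01060f0309) (.leaf (nat_lit 0xb0208050f07000d0a030c01060e0409) (nat_lit 1027))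
 (.leaf (nat_lit 0xb02080a0e070d0005040c01060f0309) (nat_lit 771))
) (.node (nat_lit 0xb02090d030c050a000e070106040f08) (.leaf (nat_lit 0xb020900040c0a050d0f070106030e08) (nat_lit 512))
 (.leaf (nat_lit 0xb02090d030c050a000e070106040f08) (nat_lit 517))
)))) (.node (nat_lit 0xe0f0007020508090c010a03040b060d) (.node (nat_lit 0xd000e010904020b060c03050a08070f) (.node (nat_lit 0xc07060300020f0e04050b09080d0a01) (.node (nat_lit 0xc07010f0a0b04030e00020908050d06) (.leaf (nat_lit 0xc07010e050b03040f0d0209080a0006) (nat_lit 773))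
 (.leaf (nat_lit 0xc07010f0a0b04030e00020908050d06) (nat_lit 771))
) (.node (nat_lit 0xc0706040d020e0f030a0b0908000501) (.leaf (nat_lit 0xc07060300020f0e04050b09080d0a01) (nat_lit 512))
 (.leaf (nat_lit 0xc0706040d020e0f030a0b0908000501) (nat_lit 256))
)) (.node (nat_lit 0xd000f02070306010b0904050a0c080e) (.node (nat_lit 0xd000e0608040b02010703050a090c0f) (.leaf (nat_lit 0xd000e010904020b060c03050a08070f) (nat_lit 773))
 (.leaf (nat_lit 0xd000e0608040b02010703050a090c0f) (nat_lit 768))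
) (.node (nat_lit 0xd000f0b0c030106020804050a07090e) (.leaf (nat_lit 0xd000f02070306010b0904050a0c080e) (nat_lit 1027))
 (.leaf (nat_lit 0xd000f0b0c030106020804050a07090e) (nat_lit 771))
))) (.node (nat_lit 0xf0e000806050c0709020a0403010b0d) (.node (nat_lit 0xe0f0d08060a0c070902050304010b00) (.node (nat_lit 0xe0f000c0b05090807060a030402010d) (.leaf (nat_lit 0xe0f0007020508090c010a03040b060d) (nat_lit 517))
 (.leaf (nat_lit 0xe0f000c0b05090807060a030402010d) (nat_lit 769))
) (.node (nat_lit 0xe0f0d09010a070c080b050304060200) (.leaf (nat_lit 0xe0f0d08060a0c070902050304010b00) (nat_lit 515))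
 (.leaf (nat_lit 0xe0f0d09010a070c080b050304060200) (nat_lit 517))
)) (.node (nat_lit 0xf0e0d07020a08090c010504030b0600) (.node (nat_lit 0xf0e00090105070c080b0a040306020d) (.leaf (nat_lit 0xf0e000806050c0709020a0403010b0d) (nat_lit 518))
 (.leaf (nat_lit 0xf0e00090105070c080b0a040306020d) (nat_lit 515))
) (.node (nat_lit 0xf0e0d0c0b0a09080706050403020100) (.leaf (nat_lit 0xf0e0d07020a08090c010504030b0600) (nat_lit 258))
 (.leaf (nat_lit 0xf0e0d0c0b0a09080706050403020100) (nat_lit 0))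
))))))

theorem P010_ok : genOK A16 [(nat_lit 0xc0706040d020e0f030a0b0908000501), (nat_lit 0x8090b0f050604030e0d010c070a0002), (nat_lit 0xf0e0d07020a08090c010504030b0600), (nat_lit 0xa050406090f0b02010c0e0d00080703), (nat_lit 0xa050406090f0b02010c0e0d00080703), (nat_lit 0xa05030b070e010602090f0d000c0804), (nat_lit 0x50a04020c0f06010b080e000d070903)] P010_t (nat_lit 64) = true := by decide +kernel

def r011 : List (List ℕ) := rN0 ++ (rG ++ (eB1 ++ eC1))

noncomputable def t011_rels : LT :=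
(.node (.node (.node (.node (.node (.leaf [])
 (.leaf [nat_lit 3,nat_lit 5,nat_lit 3,nat_lit 5,nat_lit 1,nat_lit 1,nat_lit 2])
) (.leaf [nat_lit 0,nat_lit 0,nat_lit 0,nat_lit 0,nat_lit 0,nat_lit 0,nat_lit 0,nat_lit 0])
) (.node (.leaf [nat_lit 3,nat_lit 4])
 (.leaf [nat_lit 3,nat_lit 3])
)) (.node (.node (.leaf [nat_lit 1,nat_lit 0])
 (.leaf [nat_lit 3,nat_lit 0,nat_lit 4,nat_lit 0])
) (.node (.leaf [nat_lit 5,nat_lit 6])
 (.leaf [nat_lit 5,nat_lit 2,nat_lit 6,nat_lit 2])
))) (.node (.node (.node (.leaf [nat_lit 0,nat_lit 1])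
 (.leaf [nat_lit 2,nat_lit 0,nat_lit 2,nat_lit 0,nat_lit 0,nat_lit 0])
) (.node (.leaf [nat_lit 4,nat_lit 3])
 (.leaf [nat_lit 5,nat_lit 0,nat_lit 6,nat_lit 1,nat_lit 2])
)) (.node (.node (.leaf [nat_lit 2,nat_lit 2])
 (.leaf [nat_lit 3,nat_lit 2,nat_lit 4,nat_lit 2])
) (.node (.leaf [nat_lit 6,nat_lit 5])
 (.leaf [nat_lit 5,nat_lit 5,nat_lit 0,nat_lit 0,nat_lit 0,nat_lit 0])
))))
noncomputable def t011_hws : LT :=
(.leaf [])

noncomputable def t011_inv : ℕ → ℕ := getP (nat_lit 8) (nat_lit 255) (nat_lit 0x5060304020001)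

noncomputable def t011_t : BT :=
(.node (.node (.node (.node (.leaf (nat_lit 0x20827000))
 (.leaf (nat_lit 0x10500000))
) (.leaf (nat_lit 0xd27020))
) (.node (.leaf (nat_lit 0x120727010))
 (.leaf (nat_lit 0x600059))
)) (.node (.node (.leaf (nat_lit 0x927008))
 (.leaf (nat_lit 0x320a02029))
) (.node (.leaf (nat_lit 0x220c27018))
 (.leaf (nat_lit 0x1ff00ff8))
)))

noncomputable def t011_rules : LT :=
(.node (.node (.leaf [nat_lit 13,nat_lit 3,nat_lit 1,nat_lit 0,nat_lit 6,nat_lit 2,nat_lit 0,nat_lit 5])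
 (.leaf [nat_lit 16,nat_lit 4,nat_lit 1,nat_lit 3,nat_lit 6,nat_lit 4,nat_lit 2,nat_lit 0,nat_lit 0,nat_lit 6])
) (.node (.leaf [nat_lit 14,nat_lit 2,nat_lit 1,nat_lit 2,nat_lit 6,nat_lit 2,nat_lit 5])
 (.leaf [nat_lit 15,nat_lit 4,nat_lit 1,nat_lit 5,nat_lit 6,nat_lit 1,nat_lit 1,nat_lit 1,nat_lit 1])
))

noncomputable def t011_subs : LT :=
(.leaf [nat_lit 0,nat_lit 0,nat_lit 0,nat_lit 7])


noncomputable def t011 : TC :=
  ⟨fun x c => Nat.shiftRight (BT.get t011_t x) (Nat.mul (nat_lit 17) c),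
  (nat_lit 3), (nat_lit 7), (nat_lit 4095), (nat_lit 12), (nat_lit 31), (nat_lit 4088), (nat_lit 2), (nat_lit 2), (nat_lit 7), (nat_lit 5), (nat_lit 7), (nat_lit 8), t011_inv, t011_rules, t011_subs⟩

theorem t011_c1 : t011.rules.all (ruleOK t011.m t011.inv t011_rels) = true := by decide +kernel
theorem t011_c2 : t011.subs.all (subOK t011.m t011.inv t011_hws) = true := by decide +kernel
theorem t011_c3 : t011.base = true := by decide +kernel

theorem t011_s0 : t011.slots (nat_lit 0) (nat_lit 2) = true := by decide +kernel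

theorem t011_c4 : t011.Upto t011.N := ((TC.upto_zero t011).step _ t011_s0)
theorem t011_c5 : t011.UptoE t011.N := (TC.uptoE_n t011)
theorem t011_bound {G : Type*} [Group G] {g : ℕ → G} {H : Subgroup G} (hinv : ∀ x < 7, g x * g (t011_inv x) = 1)
    (hrels : ∀ i, evalW g (t011_rels.get i) = 1) (hH : ∀ x < 5, g x ∈ H) (hhws : ∀ i, evalW g (t011_hws.get i) ∈ H) :
    H.relIndex (genLt g 7) ≠ 0 ∧ H.relIndex (genLt g 7) ≤ 2 :=
  TC.relIndex_le (T := t011) hinv hrels hH hhws t011_c1 t011_c2 t011_c3 t011_c4 t011_c5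

theorem t011_bd : Bound.{u} r011 5 7 2 := fun _ _ _ _ hs hH =>
  t011_bound (hs.hinv (by decide +kernel)) (hs.tree (by decide +kernel)) hH (leaf_nil_mem' _ _ (by decide +kernel))

theorem pres011 : Pres.{u} r011 7 64 := presN0.step t011_bd (by decide +kernel)

noncomputable def c011 : List ℕ := [(nat_lit 0xc060b04030e020f0d090a0708000501), (nat_lit 0x80a070f0d050603040e010c0b090002), (nat_lit 0xf0e0d0b0c02090708010504030a0600), (nat_lit 0x40e030c0b060507080a090f0d010200), (nat_lit 0x40e030c0b060507080a090f0d010200), (nat_lit 0x50409020a0c0f0106080d000e0b0703), (nat_lit 0x903050a020b0d0601070f0e000c0804)]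

theorem c011_ok : allL c011 (permOK 16) = true := by decide +kernel

noncomputable def P011_t : ST :=
(.node (nat_lit 0x80107030405020f0d000a0b0c090e06) (.node (nat_lit 0x40903070806000c0b020e0d0f010a05) (.node (nat_lit 0x2080a000e040b05090f0c0601030d07) (.node (nat_lit 0x10706000e0f0b0905040c0a020d0308) (.node (nat_lit 0xf0e010607030a020c040905080b0d) (.node (nat_lit 0x40e0a02070d01060b0f0509080c03) (.leaf (nat_lit 0x40e020a080d06010c0f0509070b03) (nat_lit 517))
 (.leaf (nat_lit 0x40e0a02070d01060b0f0509080c03) (nat_lit 773))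
) (.node (nat_lit 0xf0e06010803020a0b040905070c0d) (.leaf (nat_lit 0xf0e010607030a020c040905080b0d) (nat_lit 768))
 (.leaf (nat_lit 0xf0e06010803020a0b040905070c0d) (nat_lit 773))
)) (.node (nat_lit 0x10c0605090d080e000407020a0f030b) (.node (nat_lit 0x107060e000d0b0509030c0a020f0408) (.leaf (nat_lit 0x10706000e0f0b0905040c0a020d0308) (nat_lit 771))
 (.leaf (nat_lit 0x107060e000d0b0509030c0a020f0408) (nat_lit 774))
) (.node (nat_lit 0x10c0609050f08000e0307020a0d040b) (.leaf (nat_lit 0x10c0605090d080e000407020a0f030b) (nat_lit 517))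
 (.leaf (nat_lit 0x10c0609050f08000e0307020a0d040b) (nat_lit 513))
))) (.node (nat_lit 0x300040b0c0109080702050d0f060a0e) (.node (nat_lit 0x20c0a05090407000e0d080106030f0b) (.node (nat_lit 0x2080a0e00030b09050d0c0601040f07) (.leaf (nat_lit 0x2080a000e040b05090f0c0601030d07) (nat_lit 517))
 (.leaf (nat_lit 0x2080a0e00030b09050d0c0601040f07) (nat_lit 512))
) (.node (nat_lit 0x20c0a090503070e000f080106040d0b) (.leaf (nat_lit 0x20c0a05090407000e0d080106030f0b) (nat_lit 773))
 (.leaf (nat_lit 0x20c0a090503070e000f080106040d0b) (nat_lit 771))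
)) (.node (nat_lit 0x305040708060e0c0b02000f0d010a09) (.node (nat_lit 0x300040c0b060907080a050d0f01020e) (.leaf (nat_lit 0x300040b0c0109080702050d0f060a0e) (nat_lit 773))
 (.leaf (nat_lit 0x300040c0b060907080a050d0f01020e) (nat_lit 1027))
) (.node (nat_lit 0x305040807010e0b0c0a000f0d060209) (.leaf (nat_lit 0x305040708060e0c0b02000f0d010a09) (nat_lit 768))
 (.leaf (nat_lit 0x305040807010e0b0c0a000f0d060209) (nat_lit 513))
)))) (.node (nat_lit 0x60801000e0f0c0905040b020a0d0307) (.node (nat_lit 0x50409020a0c0f0106080d000e0b0703) (.node (nat_lit 0x40e030b0c0105080702090f0d060a00) (.node (nat_lit 0x40903080701000b0c0a0e0d0f060205) (.leaf (nat_lit 0x40903070806000c0b020e0d0f010a05) (nat_lit 512))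
 (.leaf (nat_lit 0x40903080701000b0c0a0e0d0f060205) (nat_lit 770))
) (.node (nat_lit 0x40e030c0b060507080a090f0d010200) (.leaf (nat_lit 0x40e030b0c0105080702090f0d060a00) (nat_lit 515))
 (.leaf (nat_lit 0x40e030c0b060507080a090f0d010200) (nat_lit 259))
)) (.node (nat_lit 0x50d0901060c03020a07040e000b080f) (.node (nat_lit 0x504090a020b0f0601070d000e0c0803) (.leaf (nat_lit 0x50409020a0c0f0106080d000e0b0703) (nat_lit 261))
 (.leaf (nat_lit 0x504090a020b0f0601070d000e0c0803) (nat_lit 517))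
) (.node (nat_lit 0x50d0906010b030a0208040e000c070f) (.leaf (nat_lit 0x50d0901060c03020a07040e000b080f) (nat_lit 771))
 (.leaf (nat_lit 0x50d0906010b030a0208040e000c070f) (nat_lit 515))
))) (.node (nat_lit 0x702080d0f0901040300060b0c050e0a) (.node (nat_lit 0x60b0105090d070e0004080a020f030c) (.node (nat_lit 0x608010e000d0c0509030b020a0f0407) (.leaf (nat_lit 0x60801000e0f0c0905040b020a0d0307) (nat_lit 773))
 (.leaf (nat_lit 0x608010e000d0c0509030b020a0f0407) (nat_lit 771))
) (.node (nat_lit 0x60b0109050f07000e03080a020d040c) (.leaf (nat_lit 0x60b0105090d070e0004080a020f030c) (nat_lit 513))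
 (.leaf (nat_lit 0x60b0109050f07000e03080a020d040c) (nat_lit 518))
)) (.node (nat_lit 0x706080304050a0f0d00020c0b090e01) (.node (nat_lit 0x702080f0d050103040e060b0c09000a) (.leaf (nat_lit 0x702080d0f0901040300060b0c050e0a) (nat_lit 768))
 (.leaf (nat_lit 0x702080f0d050103040e060b0c09000a) (nat_lit 514))
) (.node (nat_lit 0x706080403090a0d0f0e020c0b050001) (.leaf (nat_lit 0x706080304050a0f0d00020c0b090e01) (nat_lit 771))
 (.leaf (nat_lit 0x706080403090a0d0f0e020c0b050001) (nat_lit 515))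
))))) (.node (nat_lit 0xc060b030400020d0f050a07080e0901) (.node (nat_lit 0xa0702000e040c05090f0b0106030d08) (.node (nat_lit 0x90305020a0c0d0106080f0e000b0704) (.node (nat_lit 0x80a070d0f0906040300010c0b050e02) (.node (nat_lit 0x80107040309020d0f0e0a0b0c050006) (.leaf (nat_lit 0x80107030405020f0d000a0b0c090e06) (nat_lit 1027))
 (.leaf (nat_lit 0x80107040309020d0f0e0a0b0c050006) (nat_lit 771))
) (.node (nat_lit 0x80a070f0d050603040e010c0b090002) (.leaf (nat_lit 0x80a070d0f0906040300010c0b050e02) (nat_lit 513))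
 (.leaf (nat_lit 0x80a070f0d050603040e010c0b090002) (nat_lit 257))
)) (.node (nat_lit 0x90f0501060c04020a0703000e0b080d) (.node (nat_lit 0x903050a020b0d0601070f0e000c0804) (.leaf (nat_lit 0x90305020a0c0d0106080f0e000b0704) (nat_lit 518))
 (.leaf (nat_lit 0x903050a020b0d0601070f0e000c0804) (nat_lit 262))
) (.node (nat_lit 0x90f0506010b040a020803000e0c070d) (.leaf (nat_lit 0x90f0501060c04020a0703000e0b080d) (nat_lit 515))
 (.leaf (nat_lit 0x90f0506010b040a020803000e0c070d) (nat_lit 771))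
))) (.node (nat_lit 0xb010c0304000a0d0f050208070e0906) (.node (nat_lit 0xa0b0205090408000e0d070601030f0c) (.node (nat_lit 0xa07020e00030c09050d0b0106040f08) (.leaf (nat_lit 0xa0702000e040c05090f0b0106030d08) (nat_lit 512))
 (.leaf (nat_lit 0xa07020e00030c09050d0b0106040f08) (nat_lit 518))
) (.node (nat_lit 0xa0b02090503080e000f070601040d0c) (.leaf (nat_lit 0xa0b0205090408000e0d070601030f0c) (nat_lit 771))
 (.leaf (nat_lit 0xa0b02090503080e000f070601040d0c) (nat_lit 774))
)) (.node (nat_lit 0xb020c0d0f00060304090107080e050a) (.node (nat_lit 0xb010c04030e0a0f0d09020807000506) (.leaf (nat_lit 0xb010c0304000a0d0f050208070e0906) (nat_lit 773))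
 (.leaf (nat_lit 0xb010c04030e0a0f0d09020807000506) (nat_lit 514))
) (.node (nat_lit 0xb020c0f0d0e0604030501070800090a) (.leaf (nat_lit 0xb020c0d0f00060304090107080e050a) (nat_lit 1029))
 (.leaf (nat_lit 0xb020c0f0d0e0604030501070800090a) (nat_lit 771))
)))) (.node (nat_lit 0xe0300020a080f06010c0d0905070b04) (.node (nat_lit 0xd000f0b0c02050708010903040a060e) (.node (nat_lit 0xc0a0b0d0f00010304090608070e0502) (.node (nat_lit 0xc060b04030e020f0d090a0708000501) (.leaf (nat_lit 0xc060b030400020d0f050a07080e0901) (nat_lit 512))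
 (.leaf (nat_lit 0xc060b04030e020f0d090a0708000501) (nat_lit 256))
) (.node (nat_lit 0xc0a0b0f0d0e01040305060807000902) (.leaf (nat_lit 0xc0a0b0d0f00010304090608070e0502) (nat_lit 771))
 (.leaf (nat_lit 0xc0a0b0f0d0e01040305060807000902) (nat_lit 515))
)) (.node (nat_lit 0xd090f0708020e0b0c060004030a0105) (.node (nat_lit 0xd000f0c0b0a0508070609030402010e) (.leaf (nat_lit 0xd000f0b0c02050708010903040a060e) (nat_lit 517))
 (.leaf (nat_lit 0xd000f0c0b0a0508070609030402010e) (nat_lit 769))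
) (.node (nat_lit 0xd090f08070a0e0c0b01000403020605) (.leaf (nat_lit 0xd090f0708020e0b0c060004030a0105) (nat_lit 771))
 (.leaf (nat_lit 0xd090f08070a0e0c0b01000403020605) (nat_lit 774))
))) (.node (nat_lit 0xf050d070802000b0c060e03040a0109) (.node (nat_lit 0xe0d00010607040a020c030509080b0f) (.node (nat_lit 0xe03000a02070f01060b0d0905080c04) (.leaf (nat_lit 0xe0300020a080f06010c0d0905070b04) (nat_lit 774))
 (.leaf (nat_lit 0xe03000a02070f01060b0d0905080c04) (nat_lit 518))
) (.node (nat_lit 0xe0d0006010804020a0b030509070c0f) (.leaf (nat_lit 0xe0d00010607040a020c030509080b0f) (nat_lit 774))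
 (.leaf (nat_lit 0xe0d0006010804020a0b030509070c0f) (nat_lit 768))
)) (.node (nat_lit 0xf0e0d0b0c02090708010504030a0600) (.node (nat_lit 0xf050d08070a000c0b010e0304020609) (.leaf (nat_lit 0xf050d070802000b0c060e03040a0109) (nat_lit 773))
 (.leaf (nat_lit 0xf050d08070a000c0b010e0304020609) (nat_lit 771))
) (.node (nat_lit 0xf0e0d0c0b0a09080706050403020100) (.leaf (nat_lit 0xf0e0d0b0c02090708010504030a0600) (nat_lit 258))
 (.leaf (nat_lit 0xf0e0d0c0b0a09080706050403020100) (nat_lit 0))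
))))))

theorem P011_ok : genOK A16 [(nat_lit 0xc060b04030e020f0d090a0708000501), (nat_lit 0x80a070f0d050603040e010c0b090002), (nat_lit 0xf0e0d0b0c02090708010504030a0600), (nat_lit 0x40e030c0b060507080a090f0d010200), (nat_lit 0x40e030c0b060507080a090f0d010200), (nat_lit 0x50409020a0c0f0106080d000e0b0703), (nat_lit 0x903050a020b0d0601070f0e000c0804)] P011_t (nat_lit 64) = true := by decide +kernel

def r100 : List (List ℕ) := rN1 ++ (rG ++ (eB0 ++ eC0))

noncomputable def t100_rels : LT :=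
(.node (.node (.node (.node (.node (.leaf [])
 (.leaf [nat_lit 3,nat_lit 5,nat_lit 3,nat_lit 5,nat_lit 2])
) (.leaf [nat_lit 0,nat_lit 0,nat_lit 0,nat_lit 0,nat_lit 0,nat_lit 0,nat_lit 0,nat_lit 0])
) (.node (.leaf [nat_lit 3,nat_lit 4])
 (.leaf [nat_lit 3,nat_lit 3,nat_lit 0,nat_lit 0,nat_lit 0,nat_lit 0])
)) (.node (.node (.leaf [nat_lit 1,nat_lit 0])
 (.leaf [nat_lit 3,nat_lit 0,nat_lit 4,nat_lit 0])
) (.node (.leaf [nat_lit 5,nat_lit 6])
 (.leaf [nat_lit 5,nat_lit 2,nat_lit 6,nat_lit 2])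
))) (.node (.node (.node (.leaf [nat_lit 0,nat_lit 1])
 (.leaf [nat_lit 2,nat_lit 0,nat_lit 2,nat_lit 0,nat_lit 0,nat_lit 0])
) (.node (.leaf [nat_lit 4,nat_lit 3])
 (.leaf [nat_lit 5,nat_lit 0,nat_lit 6,nat_lit 1,nat_lit 2])
)) (.node (.node (.leaf [nat_lit 2,nat_lit 2])
 (.leaf [nat_lit 3,nat_lit 2,nat_lit 4,nat_lit 2])
) (.node (.leaf [nat_lit 6,nat_lit 5])
 (.leaf [nat_lit 5,nat_lit 5])
))))
noncomputable def t100_hws : LT :=
(.leaf [])

noncomputable def t100_inv : ℕ → ℕ := getP (nat_lit 8) (nat_lit 255) (nat_lit 0x5060304020001)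

noncomputable def t100_t : BT :=
(.node (.node (.node (.node (.leaf (nat_lit 0x20a27000))
 (.leaf (nat_lit 0x10500000))
) (.leaf (nat_lit 0xd27020))
) (.node (.leaf (nat_lit 0x120927010))
 (.leaf (nat_lit 0x600041))
)) (.node (.node (.leaf (nat_lit 0xb27008))
 (.leaf (nat_lit 0x320702029))
) (.node (.leaf (nat_lit 0x220c27018))
 (.leaf (nat_lit 0x1ff00ff8))
)))

noncomputable def t100_rules : LT :=
(.node (.node (.leaf [nat_lit 13,nat_lit 3,nat_lit 1,nat_lit 0,nat_lit 6,nat_lit 2,nat_lit 0,nat_lit 5])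
 (.leaf [nat_lit 16,nat_lit 2,nat_lit 1,nat_lit 3,nat_lit 6,nat_lit 4,nat_lit 2,nat_lit 6])
) (.node (.leaf [nat_lit 14,nat_lit 2,nat_lit 1,nat_lit 2,nat_lit 6,nat_lit 2,nat_lit 5])
 (.leaf [nat_lit 15,nat_lit 0,nat_lit 1,nat_lit 5,nat_lit 6])
))

noncomputable def t100_subs : LT :=
(.leaf [nat_lit 0,nat_lit 0,nat_lit 0,nat_lit 7])


noncomputable def t100 : TC :=
  ⟨fun x c => Nat.shiftRight (BT.get t100_t x) (Nat.mul (nat_lit 17) c),
  (nat_lit 3), (nat_lit 7), (nat_lit 4095), (nat_lit 12), (nat_lit 31), (nat_lit 4088), (nat_lit 2), (nat_lit 2), (nat_lit 7), (nat_lit 5), (nat_lit 7), (nat_lit 8), t100_inv, t100_rules, t100_subs⟩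

theorem t100_c1 : t100.rules.all (ruleOK t100.m t100.inv t100_rels) = true := by decide +kernel
theorem t100_c2 : t100.subs.all (subOK t100.m t100.inv t100_hws) = true := by decide +kernel
theorem t100_c3 : t100.base = true := by decide +kernel

theorem t100_s0 : t100.slots (nat_lit 0) (nat_lit 2) = true := by decide +kernel

theorem t100_c4 : t100.Upto t100.N := ((TC.upto_zero t100).step _ t100_s0)
theorem t100_c5 : t100.UptoE t100.N := (TC.uptoE_n t100)
theorem t100_bound {G : Type*} [Group G] {g : ℕ → G} {H : Subgroup G} (hinv : ∀ x < 7, g x * g (t100_inv x) = 1)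
    (hrels : ∀ i, evalW g (t100_rels.get i) = 1) (hH : ∀ x < 5, g x ∈ H) (hhws : ∀ i, evalW g (t100_hws.get i) ∈ H) :
    H.relIndex (genLt g 7) ≠ 0 ∧ H.relIndex (genLt g 7) ≤ 2 :=
  TC.relIndex_le (T := t100) hinv hrels hH hhws t100_c1 t100_c2 t100_c3 t100_c4 t100_c5

theorem t100_bd : Bound.{u} r100 5 7 2 := fun _ _ _ _ hs hH =>
  t100_bound (hs.hinv (by decide +kernel)) (hs.tree (by decide +kernel)) hH (leaf_nil_mem' _ _ (by decide +kernel))

theorem pres100 : Pres.{u} r100 7 64 := presN1.step t100_bd (by decide +kernel)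

noncomputable def c100 : List ℕ := [(nat_lit 0x807060f0d020e04030a0b090c000501), (nat_lit 0xc090b030506040f0e0d0108070a0002), (nat_lit 0xf0e0d09020a0c0708010504030b0600), (nat_lit 0x50a040b090f020106080e000d0c0703), (nat_lit 0xa0503020c0e0b0601070f0d00090804), (nat_lit 0xa050406080f010b020c0e0d00070903), (nat_lit 0xa050406080f010b020c0e0d00070903)]

theorem c100_ok : allL c100 (permOK 16) = true := by decide +kernel

noncomputable def P100_t : ST :=
(.node (nat_lit 0x80701030a0b040f0e0002090c050d06) (.node (nat_lit 0x40305090b0d0c070806000e0f02010a) (.node (nat_lit 0x20b090503080a000d0e070601040f0c) (.node (nat_lit 0x10607000e090d0a05040c020b0f0308) (.node (nat_lit 0xd0f01080306020b0c040a0507090e) (.node (nat_lit 0xd0e0b0c0402010607030a0509080f) (.leaf (nat_lit 0xd0e0209040b060108030a050c070f) (nat_lit 773))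
 (.leaf (nat_lit 0xd0e0b0c0402010607030a0509080f) (nat_lit 1029))
) (.node (nat_lit 0xd0f060703010b0209040a05080c0e) (.leaf (nat_lit 0xd0f01080306020b0c040a0507090e) (nat_lit 771))
 (.leaf (nat_lit 0xd0f060703010b0209040a05080c0e) (nat_lit 1027))
)) (.node (nat_lit 0x1060805040c0a000d0f09020b030e07) (.node (nat_lit 0x106070d0f0900050a030c020b0e0408) (.leaf (nat_lit 0x10607000e090d0a05040c020b0f0308) (nat_lit 773))
 (.leaf (nat_lit 0x106070d0f0900050a030c020b0e0408) (nat_lit 770))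
) (.node (nat_lit 0x106080a030c050d000e09020b040f07) (.leaf (nat_lit 0x1060805040c0a000d0f09020b030e07) (nat_lit 515))
 (.leaf (nat_lit 0x106080a030c050d000e09020b040f07) (nat_lit 772))
))) (.node (nat_lit 0x3040507010d080c090b000f0e06020a) (.node (nat_lit 0x20b0c000f070d0a05030806010e0409) (.node (nat_lit 0x20b090a0408050d000f070601030e0c) (.leaf (nat_lit 0x20b090503080a000d0e070601040f0c) (nat_lit 768))
 (.leaf (nat_lit 0x20b090a0408050d000f070601030e0c) (nat_lit 512))
) (.node (nat_lit 0x20b0c0d0e0700050a040806010f0309) (.leaf (nat_lit 0x20b0c000f070d0a05030806010e0409) (nat_lit 516))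
 (.leaf (nat_lit 0x20b0c0d0e0700050a040806010f0309) (nat_lit 771))
)) (.node (nat_lit 0x3040a090b000c0708060d0f0e020105) (.node (nat_lit 0x3040508060d07090c02000f0e010b0a) (.leaf (nat_lit 0x3040507010d080c090b000f0e06020a) (nat_lit 513))
 (.leaf (nat_lit 0x3040508060d07090c02000f0e010b0a) (nat_lit 768))
) (.node (nat_lit 0x3040a0c0200090807010d0f0e0b0605) (.leaf (nat_lit 0x3040a090b000c0708060d0f0e020105) (nat_lit 1029))
 (.leaf (nat_lit 0x3040a0c0200090807010d0f0e0b0605) (nat_lit 1028))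
)))) (.node (nat_lit 0x601070504090a000d0f0c0b02030e08) (.node (nat_lit 0x50a0301070e06020b090f000d080c04) (.node (nat_lit 0x4030a070100080c090b0d0e0f060205) (.node (nat_lit 0x403050c020d09080701000e0f0b060a) (.leaf (nat_lit 0x40305090b0d0c070806000e0f02010a) (nat_lit 1027))
 (.leaf (nat_lit 0x403050c020d09080701000e0f0b060a) (nat_lit 1029))
) (.node (nat_lit 0x4030a08060007090c020d0e0f010b05) (.leaf (nat_lit 0x4030a070100080c090b0d0e0f060205) (nat_lit 770))
 (.leaf (nat_lit 0x4030a08060007090c020d0e0f010b05) (nat_lit 512))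
)) (.node (nat_lit 0x50a04020c0f0b0601070e000d090803) (.node (nat_lit 0x50a0306080e010b020c0f000d070904) (.leaf (nat_lit 0x50a0301070e06020b090f000d080c04) (nat_lit 773))
 (.leaf (nat_lit 0x50a0306080e010b020c0f000d070904) (nat_lit 769))
) (.node (nat_lit 0x50a040b090f020106080e000d0c0703) (.leaf (nat_lit 0x50a04020c0f0b0601070e000d090803) (nat_lit 515))
 (.leaf (nat_lit 0x50a040b090f020106080e000d0c0703) (nat_lit 259))
))) (.node (nat_lit 0x708010e000b0f030405020c090d0a06) (.node (nat_lit 0x60108000e0c0d0a0504090b020f0307) (.node (nat_lit 0x601070a0309050d000e0c0b02040f08) (.leaf (nat_lit 0x601070504090a000d0f0c0b02030e08) (nat_lit 771))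
 (.leaf (nat_lit 0x601070a0309050d000e0c0b02040f08) (nat_lit 516))
) (.node (nat_lit 0x601080d0f0c00050a03090b020e0407) (.leaf (nat_lit 0x60108000e0c0d0a0504090b020f0307) (nat_lit 517))
 (.leaf (nat_lit 0x601080d0f0c00050a03090b020e0407) (nat_lit 513))
)) (.node (nat_lit 0x70806030a02040f0e000b0c09050d01) (.node (nat_lit 0x708010f0d0b0e04030a020c09000506) (.leaf (nat_lit 0x708010e000b0f030405020c090d0a06) (nat_lit 771))
 (.leaf (nat_lit 0x708010f0d0b0e04030a020c09000506) (nat_lit 514))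
) (.node (nat_lit 0x70806040502030e0f0d0b0c090a0001) (.leaf (nat_lit 0x70806030a02040f0e000b0c09050d01) (nat_lit 773))
 (.leaf (nat_lit 0x70806040502030e0f0d0b0c090a0001) (nat_lit 772))
))))) (.node (nat_lit 0xc09020e0d010f03040a06080700050b) (.node (nat_lit 0xa0503020c0e0b0601070f0d00090804) (.node (nat_lit 0x90c02030501040f0e0d0607080a000b) (.node (nat_lit 0x807060e00020f0304050b090c0d0a01) (.node (nat_lit 0x8070104050b030e0f0d02090c0a0006) (.leaf (nat_lit 0x80701030a0b040f0e0002090c050d06) (nat_lit 771))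
 (.leaf (nat_lit 0x8070104050b030e0f0d02090c0a0006) (nat_lit 773))
) (.node (nat_lit 0x807060f0d020e04030a0b090c000501) (.leaf (nat_lit 0x807060e00020f0304050b090c0d0a01) (nat_lit 512))
 (.leaf (nat_lit 0x807060f0d020e04030a0b090c000501) (nat_lit 256))
)) (.node (nat_lit 0x90c0b0e0d060f03040a010708000502) (.node (nat_lit 0x90c02040a01030e0f00060708050d0b) (.leaf (nat_lit 0x90c02030501040f0e0d0607080a000b) (nat_lit 514))
 (.leaf (nat_lit 0x90c02040a01030e0f00060708050d0b) (nat_lit 768))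
) (.node (nat_lit 0x90c0b0f00060e0403050107080d0a02) (.leaf (nat_lit 0x90c0b0e0d060f03040a010708000502) (nat_lit 773))
 (.leaf (nat_lit 0x90c0b0f00060e0403050107080d0a02) (nat_lit 771))
))) (.node (nat_lit 0xb0209000f080d0a05030701060e040c) (.node (nat_lit 0xa050401070f06020b090e0d00080c03) (.node (nat_lit 0xa05030b090e020106080f0d000c0704) (.leaf (nat_lit 0xa0503020c0e0b0601070f0d00090804) (nat_lit 260))
 (.leaf (nat_lit 0xa05030b090e020106080f0d000c0704) (nat_lit 516))
) (.node (nat_lit 0xa050406080f010b020c0e0d00070903) (.leaf (nat_lit 0xa050401070f06020b090e0d00080c03) (nat_lit 517))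
 (.leaf (nat_lit 0xa050406080f010b020c0e0d00070903) (nat_lit 261))
)) (.node (nat_lit 0xb020c0503070a000d0e080106040f09) (.node (nat_lit 0xb02090d0e0800050a040701060f030c) (.leaf (nat_lit 0xb0209000f080d0a05030701060e040c) (nat_lit 772))
 (.leaf (nat_lit 0xb02090d0e0800050a040701060f030c) (nat_lit 515))
) (.node (nat_lit 0xb020c0a0407050d000f080106030e09) (.leaf (nat_lit 0xb020c0503070a000d0e080106040f09) (nat_lit 773))
 (.leaf (nat_lit 0xb020c0a0407050d000f080106030e09) (nat_lit 517))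
)))) (.node (nat_lit 0xe0f000902050c0708010a03040b060d) (.node (nat_lit 0xd000e01080406020b0c03050a07090f) (.node (nat_lit 0xc090b030506040f0e0d0108070a0002) (.node (nat_lit 0xc09020f00010e0403050608070d0a0b) (.leaf (nat_lit 0xc09020e0d010f03040a06080700050b) (nat_lit 772))
 (.leaf (nat_lit 0xc09020f00010e0403050608070d0a0b) (nat_lit 773))
) (.node (nat_lit 0xc090b040a06030e0f00010807050d02) (.leaf (nat_lit 0xc090b030506040f0e0d0108070a0002) (nat_lit 257))
 (.leaf (nat_lit 0xc090b040a06030e0f00010807050d02) (nat_lit 513))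
)) (.node (nat_lit 0xd000f0209030b06010804050a0c070e) (.node (nat_lit 0xd000e060704010b020903050a080c0f) (.leaf (nat_lit 0xd000e01080406020b0c03050a07090f) (nat_lit 1028))
 (.leaf (nat_lit 0xd000e060704010b020903050a080c0f) (nat_lit 772))
) (.node (nat_lit 0xd000f0b0c030201060704050a09080e) (.leaf (nat_lit 0xd000f0209030b06010804050a0c070e) (nat_lit 768))
 (.leaf (nat_lit 0xd000f0b0c030201060704050a09080e) (nat_lit 773))
))) (.node (nat_lit 0xf0e00070605080c09020a0403010b0d) (.node (nat_lit 0xe0f0d07060a080c0902050304010b00) (.node (nat_lit 0xe0f000c0b05090807060a030402010d) (.leaf (nat_lit 0xe0f000902050c0708010a03040b060d) (nat_lit 515))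
 (.leaf (nat_lit 0xe0f000c0b05090807060a030402010d) (nat_lit 769))
) (.node (nat_lit 0xe0f0d08010a07090c0b050304060200) (.leaf (nat_lit 0xe0f0d07060a080c0902050304010b00) (nat_lit 516))
 (.leaf (nat_lit 0xe0f0d08010a07090c0b050304060200) (nat_lit 517))
)) (.node (nat_lit 0xf0e0d09020a0c0708010504030b0600) (.node (nat_lit 0xf0e0008010507090c0b0a040306020d) (.leaf (nat_lit 0xf0e00070605080c09020a0403010b0d) (nat_lit 517))
 (.leaf (nat_lit 0xf0e0008010507090c0b0a040306020d) (nat_lit 515))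
) (.node (nat_lit 0xf0e0d0c0b0a09080706050403020100) (.leaf (nat_lit 0xf0e0d09020a0c0708010504030b0600) (nat_lit 258))
 (.leaf (nat_lit 0xf0e0d0c0b0a09080706050403020100) (nat_lit 0))
))))))

theorem P100_ok : genOK A16 [(nat_lit 0x807060f0d020e04030a0b090c000501), (nat_lit 0xc090b030506040f0e0d0108070a0002), (nat_lit 0xf0e0d09020a0c0708010504030b0600), (nat_lit 0x50a040b090f020106080e000d0c0703), (nat_lit 0xa0503020c0e0b0601070f0d00090804), (nat_lit 0xa050406080f010b020c0e0d00070903), (nat_lit 0xa050406080f010b020c0e0d00070903)] P100_t (nat_lit 64) = true := by decide +kernel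

def r101 : List (List ℕ) := rN1 ++ (rG ++ (eB0 ++ eC1))

noncomputable def t101_rels : LT :=
(.node (.node (.node (.node (.node (.leaf [])
 (.leaf [nat_lit 3,nat_lit 5,nat_lit 3,nat_lit 5,nat_lit 1,nat_lit 1,nat_lit 2])
) (.leaf [nat_lit 0,nat_lit 0,nat_lit 0,nat_lit 0,nat_lit 0,nat_lit 0,nat_lit 0,nat_lit 0])
) (.node (.leaf [nat_lit 3,nat_lit 4])
 (.leaf [nat_lit 3,nat_lit 3,nat_lit 0,nat_lit 0,nat_lit 0,nat_lit 0])
)) (.node (.node (.leaf [nat_lit 1,nat_lit 0])
 (.leaf [nat_lit 3,nat_lit 0,nat_lit 4,nat_lit 0])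
) (.node (.leaf [nat_lit 5,nat_lit 6])
 (.leaf [nat_lit 5,nat_lit 2,nat_lit 6,nat_lit 2])
))) (.node (.node (.node (.leaf [nat_lit 0,nat_lit 1])
 (.leaf [nat_lit 2,nat_lit 0,nat_lit 2,nat_lit 0,nat_lit 0,nat_lit 0])
) (.node (.leaf [nat_lit 4,nat_lit 3])
 (.leaf [nat_lit 5,nat_lit 0,nat_lit 6,nat_lit 1,nat_lit 2])
)) (.node (.node (.leaf [nat_lit 2,nat_lit 2])
 (.leaf [nat_lit 3,nat_lit 2,nat_lit 4,nat_lit 2])
) (.node (.leaf [nat_lit 6,nat_lit 5])
 (.leaf [nat_lit 5,nat_lit 5])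
))))
noncomputable def t101_hws : LT :=
(.leaf [])

noncomputable def t101_inv : ℕ → ℕ := getP (nat_lit 8) (nat_lit 255) (nat_lit 0x5060304020001)

noncomputable def t101_t : BT :=
(.node (.node (.node (.node (.leaf (nat_lit 0x20a27000))
 (.leaf (nat_lit 0x10500000))
) (.leaf (nat_lit 0xd27020))
) (.node (.leaf (nat_lit 0x120927010))
 (.leaf (nat_lit 0x600041))
)) (.node (.node (.leaf (nat_lit 0xb27008))
 (.leaf (nat_lit 0x320702029))
) (.node (.leaf (nat_lit 0x220c27018))
 (.leaf (nat_lit 0x1ff00ff8))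
)))

noncomputable def t101_rules : LT :=
(.node (.node (.leaf [nat_lit 13,nat_lit 3,nat_lit 1,nat_lit 0,nat_lit 6,nat_lit 2,nat_lit 0,nat_lit 5])
 (.leaf [nat_lit 16,nat_lit 4,nat_lit 1,nat_lit 3,nat_lit 6,nat_lit 4,nat_lit 2,nat_lit 0,nat_lit 0,nat_lit 6])
) (.node (.leaf [nat_lit 14,nat_lit 2,nat_lit 1,nat_lit 2,nat_lit 6,nat_lit 2,nat_lit 5])
 (.leaf [nat_lit 15,nat_lit 0,nat_lit 1,nat_lit 5,nat_lit 6])
))

noncomputable def t101_subs : LT :=
(.leaf [nat_lit 0,nat_lit 0,nat_lit 0,nat_lit 7])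


noncomputable def t101 : TC :=
  ⟨fun x c => Nat.shiftRight (BT.get t101_t x) (Nat.mul (nat_lit 17) c),
  (nat_lit 3), (nat_lit 7), (nat_lit 4095), (nat_lit 12), (nat_lit 31), (nat_lit 4088), (nat_lit 2), (nat_lit 2), (nat_lit 7), (nat_lit 5), (nat_lit 7), (nat_lit 8), t101_inv, t101_rules, t101_subs⟩

theorem t101_c1 : t101.rules.all (ruleOK t101.m t101.inv t101_rels) = true := by decide +kernel
theorem t101_c2 : t101.subs.all (subOK t101.m t101.inv t101_hws) = true := by decide +kernel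
theorem t101_c3 : t101.base = true := by decide +kernel

theorem t101_s0 : t101.slots (nat_lit 0) (nat_lit 2) = true := by decide +kernel

theorem t101_c4 : t101.Upto t101.N := ((TC.upto_zero t101).step _ t101_s0)
theorem t101_c5 : t101.UptoE t101.N := (TC.uptoE_n t101)
theorem t101_bound {G : Type*} [Group G] {g : ℕ → G} {H : Subgroup G} (hinv : ∀ x < 7, g x * g (t101_inv x) = 1)
    (hrels : ∀ i, evalW g (t101_rels.get i) = 1) (hH : ∀ x < 5, g x ∈ H) (hhws : ∀ i, evalW g (t101_hws.get i) ∈ H) :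
    H.relIndex (genLt g 7) ≠ 0 ∧ H.relIndex (genLt g 7) ≤ 2 :=
  TC.relIndex_le (T := t101) hinv hrels hH hhws t101_c1 t101_c2 t101_c3 t101_c4 t101_c5

theorem t101_bd : Bound.{u} r101 5 7 2 := fun _ _ _ _ hs hH =>
  t101_bound (hs.hinv (by decide +kernel)) (hs.tree (by decide +kernel)) hH (leaf_nil_mem' _ _ (by decide +kernel))

theorem pres101 : Pres.{u} r101 7 64 := presN1.step t101_bd (by decide +kernel)

noncomputable def c101 : List ℕ := [(nat_lit 0x708060f0e0d020403090a0c0b000501), (nat_lit 0xc0b0a040305060e0f0d010807090002), (nat_lit 0xf0e0d0b0c02090708010504030a0600), (nat_lit 0x90504020a0c0e0106080f000d0b0703), (nat_lit 0x509030a020b0f0601070e0d000c0804), (nat_lit 0x4030d08070a050c0b01090f0e020600), (nat_lit 0x4030d08070a050c0b01090f0e020600)]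

theorem c101_ok : allL c101 (permOK 16) = true := by decide +kernel

noncomputable def P101_t : ST :=
(.node (nat_lit 0x807010e0f000a030405020b0c0d0906) (.node (nat_lit 0x403050708060d0c0b02000e0f010a09) (.node (nat_lit 0x20a08000d040c09050f0b0601030e07) (.node (nat_lit 0x106070509030c0d000f0b0a02040e08) (.node (nat_lit 0xd0f010607040a020c030509080b0e) (.node (nat_lit 0xd0406010b0f0a02080e09050c0703) (.leaf (nat_lit 0xd0401060c0f020a070e09050b0803) (nat_lit 515))
 (.leaf (nat_lit 0xd0406010b0f0a02080e09050c0703) (nat_lit 771))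
) (.node (nat_lit 0xd0f06010804020a0b030509070c0e) (.leaf (nat_lit 0xd0f010607040a020c030509080b0e) (nat_lit 772))
 (.leaf (nat_lit 0xd0f06010804020a0b030509070c0e) (nat_lit 773))
)) (.node (nat_lit 0x1060c05090f07000d0308020a0e040b) (.node (nat_lit 0x106070905040c000d0e0b0a02030f08) (.leaf (nat_lit 0x106070509030c0d000f0b0a02040e08) (nat_lit 516))
 (.leaf (nat_lit 0x106070905040c000d0e0b0a02030f08) (nat_lit 771))
) (.node (nat_lit 0x1060c09050e070d000408020a0f030b) (.leaf (nat_lit 0x1060c05090f07000d0308020a0e040b) (nat_lit 773))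
 (.leaf (nat_lit 0x1060c09050e070d000408020a0f030b) (nat_lit 771))
))) (.node (nat_lit 0x30400070802090b0c06050e0f0a010d) (.node (nat_lit 0x20a0c000d0f080509040701060e030b) (.node (nat_lit 0x20a080d00030c05090e0b0601040f07) (.leaf (nat_lit 0x20a08000d040c09050f0b0601030e07) (nat_lit 773))
 (.leaf (nat_lit 0x20a080d00030c05090e0b0601040f07) (nat_lit 772))
) (.node (nat_lit 0x20a0c0d000e080905030701060f040b) (.leaf (nat_lit 0x20a0c000d0f080509040701060e030b) (nat_lit 515))
 (.leaf (nat_lit 0x20a0c0d000e080905030701060f040b) (nat_lit 772))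
)) (.node (nat_lit 0x30409070806000c0b020d0f0e010a05) (.node (nat_lit 0x3040008070a090c0b01050e0f02060d) (.leaf (nat_lit 0x30400070802090b0c06050e0f0a010d) (nat_lit 773))
 (.leaf (nat_lit 0x3040008070a090c0b01050e0f02060d) (nat_lit 769))
) (.node (nat_lit 0x30409080701000b0c0a0d0f0e060205) (.leaf (nat_lit 0x30409070806000c0b020d0f0e010a05) (nat_lit 512))
 (.leaf (nat_lit 0x30409080701000b0c0a0d0f0e060205) (nat_lit 770))
)))) (.node (nat_lit 0x601080509030b0d000f0c020a040e07) (.node (nat_lit 0x50903020a0c0f0106080e0d000b0704) (.node (nat_lit 0x4030d070802050b0c06090f0e0a0100) (.node (nat_lit 0x403050807010d0b0c0a000e0f060209) (.leaf (nat_lit 0x403050708060d0c0b02000e0f010a09) (nat_lit 768))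
 (.leaf (nat_lit 0x403050807010d0b0c0a000e0f060209) (nat_lit 513))
) (.node (nat_lit 0x4030d08070a050c0b01090f0e020600) (.leaf (nat_lit 0x4030d070802050b0c06090f0e0a0100) (nat_lit 517))
 (.leaf (nat_lit 0x4030d08070a050c0b01090f0e020600) (nat_lit 261))
)) (.node (nat_lit 0x5090f020a080306010c04000d070b0e) (.node (nat_lit 0x509030a020b0f0601070e0d000c0804) (.leaf (nat_lit 0x50903020a0c0f0106080e0d000b0704) (nat_lit 516))
 (.leaf (nat_lit 0x509030a020b0f0601070e0d000c0804) (nat_lit 260))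
) (.node (nat_lit 0x5090f0a02070301060b04000d080c0e) (.leaf (nat_lit 0x5090f020a080306010c04000d070b0e) (nat_lit 517))
 (.leaf (nat_lit 0x5090f0a02070301060b04000d080c0e) (nat_lit 773))
))) (.node (nat_lit 0x708020e0f0506040300010b0c090d0a) (.node (nat_lit 0x6010b05090f08000d03070a020e040c) (.node (nat_lit 0x601080905040b000d0e0c020a030f07) (.leaf (nat_lit 0x601080509030b0d000f0c020a040e07) (nat_lit 772))
 (.leaf (nat_lit 0x601080905040b000d0e0c020a030f07) (nat_lit 515))
) (.node (nat_lit 0x6010b09050e080d0004070a020f030c) (.leaf (nat_lit 0x6010b05090f08000d03070a020e040c) (nat_lit 772))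
 (.leaf (nat_lit 0x6010b09050e080d0004070a020f030c) (nat_lit 773))
)) (.node (nat_lit 0x708060e0f00020304050a0c0b0d0901) (.node (nat_lit 0x708020f0e090603040d010b0c05000a) (.leaf (nat_lit 0x708020e0f0506040300010b0c090d0a) (nat_lit 770))
 (.leaf (nat_lit 0x708020f0e090603040d010b0c05000a) (nat_lit 773))
) (.node (nat_lit 0x708060f0e0d020403090a0c0b000501) (.leaf (nat_lit 0x708060e0f00020304050a0c0b0d0901) (nat_lit 512))
 (.leaf (nat_lit 0x708060f0e0d020403090a0c0b000501) (nat_lit 256))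
))))) (.node (nat_lit 0xc0b060304000a0e0f090207080d0501) (.node (nat_lit 0xa0207000d040b09050f0c0106030e08) (.node (nat_lit 0x90504020a0c0e0106080f000d0b0703) (.node (nat_lit 0x8070a0e0f0501040300060c0b090d02) (.node (nat_lit 0x807010f0e0d0a040309020b0c000506) (.leaf (nat_lit 0x807010e0f000a030405020b0c0d0906) (nat_lit 771))
 (.leaf (nat_lit 0x807010f0e0d0a040309020b0c000506) (nat_lit 514))
) (.node (nat_lit 0x8070a0f0e090103040d060c0b050002) (.leaf (nat_lit 0x8070a0e0f0501040300060c0b090d02) (nat_lit 513))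
 (.leaf (nat_lit 0x8070a0f0e090103040d060c0b050002) (nat_lit 517))
)) (.node (nat_lit 0x9050e020a080406010c030d00070b0f) (.node (nat_lit 0x905040a020b0e0601070f000d0c0803) (.leaf (nat_lit 0x90504020a0c0e0106080f000d0b0703) (nat_lit 259))
 (.leaf (nat_lit 0x905040a020b0e0601070f000d0c0803) (nat_lit 515))
) (.node (nat_lit 0x9050e0a02070401060b030d00080c0f) (.leaf (nat_lit 0x9050e020a080406010c030d00070b0f) (nat_lit 773))
 (.leaf (nat_lit 0x9050e0a02070401060b030d00080c0f) (nat_lit 517))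
))) (.node (nat_lit 0xb0c01030400020e0f090a08070d0506) (.node (nat_lit 0xa020b000d0f070509040806010e030c) (.node (nat_lit 0xa02070d00030b05090e0c0106040f08) (.leaf (nat_lit 0xa0207000d040b09050f0c0106030e08) (nat_lit 771))
 (.leaf (nat_lit 0xa02070d00030b05090e0c0106040f08) (nat_lit 773))
) (.node (nat_lit 0xa020b0d000e070905030806010f040c) (.leaf (nat_lit 0xa020b000d0f070509040806010e030c) (nat_lit 771))
 (.leaf (nat_lit 0xa020b0d000e070905030806010f040c) (nat_lit 516))
)) (.node (nat_lit 0xb0c02030409010f0e00060708050d0a) (.node (nat_lit 0xb0c0104030d020f0e050a0807000906) (.leaf (nat_lit 0xb0c01030400020e0f090a08070d0506) (nat_lit 773))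
 (.leaf (nat_lit 0xb0c0104030d020f0e050a0807000906) (nat_lit 517))
) (.node (nat_lit 0xb0c02040305010e0f0d06070809000a) (.leaf (nat_lit 0xb0c02030409010f0e00060708050d0a) (nat_lit 768))
 (.leaf (nat_lit 0xb0c02040305010e0f0d06070809000a) (nat_lit 514))
)))) (.node (nat_lit 0xe0f000b0c02050708010903040a060d) (.node (nat_lit 0xd000301060c0e020a070f05090b0804) (.node (nat_lit 0xc0b0a030409060f0e00010807050d02) (.node (nat_lit 0xc0b0604030d0a0f0e05020708000901) (.leaf (nat_lit 0xc0b060304000a0e0f090207080d0501) (nat_lit 768))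
 (.leaf (nat_lit 0xc0b0604030d0a0f0e05020708000901) (nat_lit 512))
) (.node (nat_lit 0xc0b0a040305060e0f0d010807090002) (.leaf (nat_lit 0xc0b0a030409060f0e00010807050d02) (nat_lit 513))
 (.leaf (nat_lit 0xc0b0a040305060e0f0d010807090002) (nat_lit 257))
)) (.node (nat_lit 0xd000e010607030a020c040905080b0f) (.node (nat_lit 0xd000306010b0e0a02080f05090c0704) (.leaf (nat_lit 0xd000301060c0e020a070f05090b0804) (nat_lit 772))
 (.leaf (nat_lit 0xd000306010b0e0a02080f05090c0704) (nat_lit 516))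
) (.node (nat_lit 0xd000e06010803020a0b040905070c0f) (.leaf (nat_lit 0xd000e010607030a020c040905080b0f) (nat_lit 773))
 (.leaf (nat_lit 0xd000e06010803020a0b040905070c0f) (nat_lit 771))
))) (.node (nat_lit 0xf0e090b0c010d080702000304060a05) (.node (nat_lit 0xe0f050b0c01000807020d0403060a09) (.node (nat_lit 0xe0f000c0b0a0508070609030402010d) (.leaf (nat_lit 0xe0f000b0c02050708010903040a060d) (nat_lit 515))
 (.leaf (nat_lit 0xe0f000c0b0a0508070609030402010d) (nat_lit 769))
) (.node (nat_lit 0xe0f050c0b060007080a0d0403010209) (.leaf (nat_lit 0xe0f050b0c01000807020d0403060a09) (nat_lit 773))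
 (.leaf (nat_lit 0xe0f050c0b060007080a0d0403010209) (nat_lit 768))
)) (.node (nat_lit 0xf0e0d0b0c02090708010504030a0600) (.node (nat_lit 0xf0e090c0b060d07080a000304010205) (.leaf (nat_lit 0xf0e090b0c010d080702000304060a05) (nat_lit 771))
 (.leaf (nat_lit 0xf0e090c0b060d07080a000304010205) (nat_lit 773))
) (.node (nat_lit 0xf0e0d0c0b0a09080706050403020100) (.leaf (nat_lit 0xf0e0d0b0c02090708010504030a0600) (nat_lit 258))
 (.leaf (nat_lit 0xf0e0d0c0b0a09080706050403020100) (nat_lit 0))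
))))))

theorem P101_ok : genOK A16 [(nat_lit 0x708060f0e0d020403090a0c0b000501), (nat_lit 0xc0b0a040305060e0f0d010807090002), (nat_lit 0xf0e0d0b0c02090708010504030a0600), (nat_lit 0x90504020a0c0e0106080f000d0b0703), (nat_lit 0x509030a020b0f0601070e0d000c0804), (nat_lit 0x4030d08070a050c0b01090f0e020600), (nat_lit 0x4030d08070a050c0b01090f0e020600)] P101_t (nat_lit 64) = true := by decide +kernel

def r110 : List (List ℕ) := rN1 ++ (rG ++ (eB1 ++ eC0))

noncomputable def t110_rels : LT :=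
(.node (.node (.node (.node (.node (.leaf [])
 (.leaf [nat_lit 3,nat_lit 5,nat_lit 3,nat_lit 5,nat_lit 2])
) (.leaf [nat_lit 0,nat_lit 0,nat_lit 0,nat_lit 0,nat_lit 0,nat_lit 0,nat_lit 0,nat_lit 0])
) (.node (.leaf [nat_lit 3,nat_lit 4])
 (.leaf [nat_lit 3,nat_lit 3,nat_lit 0,nat_lit 0,nat_lit 0,nat_lit 0])
)) (.node (.node (.leaf [nat_lit 1,nat_lit 0])
 (.leaf [nat_lit 3,nat_lit 0,nat_lit 4,nat_lit 0])
) (.node (.leaf [nat_lit 5,nat_lit 6])
 (.leaf [nat_lit 5,nat_lit 2,nat_lit 6,nat_lit 2])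
))) (.node (.node (.node (.leaf [nat_lit 0,nat_lit 1])
 (.leaf [nat_lit 2,nat_lit 0,nat_lit 2,nat_lit 0,nat_lit 0,nat_lit 0])
) (.node (.leaf [nat_lit 4,nat_lit 3])
 (.leaf [nat_lit 5,nat_lit 0,nat_lit 6,nat_lit 1,nat_lit 2])
)) (.node (.node (.leaf [nat_lit 2,nat_lit 2])
 (.leaf [nat_lit 3,nat_lit 2,nat_lit 4,nat_lit 2])
) (.node (.leaf [nat_lit 6,nat_lit 5])
 (.leaf [nat_lit 5,nat_lit 5,nat_lit 0,nat_lit 0,nat_lit 0,nat_lit 0])
))))
noncomputable def t110_hws : LT :=
(.leaf [])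

noncomputable def t110_inv : ℕ → ℕ := getP (nat_lit 8) (nat_lit 255) (nat_lit 0x5060304020001)

noncomputable def t110_t : BT :=
(.node (.node (.node (.node (.leaf (nat_lit 0x20827000))
 (.leaf (nat_lit 0x10500000))
) (.leaf (nat_lit 0xd27020))
) (.node (.leaf (nat_lit 0x120727010))
 (.leaf (nat_lit 0x600059))
)) (.node (.node (.leaf (nat_lit 0x927008))
 (.leaf (nat_lit 0x320a02029))
) (.node (.leaf (nat_lit 0x220c27018))
 (.leaf (nat_lit 0x1ff00ff8))
)))

noncomputable def t110_rules : LT :=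
(.node (.node (.leaf [nat_lit 13,nat_lit 3,nat_lit 1,nat_lit 0,nat_lit 6,nat_lit 2,nat_lit 0,nat_lit 5])
 (.leaf [nat_lit 16,nat_lit 4,nat_lit 1,nat_lit 3,nat_lit 2,nat_lit 6,nat_lit 4,nat_lit 6])
) (.node (.leaf [nat_lit 14,nat_lit 2,nat_lit 1,nat_lit 2,nat_lit 6,nat_lit 2,nat_lit 5])
 (.leaf [nat_lit 15,nat_lit 4,nat_lit 1,nat_lit 5,nat_lit 6,nat_lit 1,nat_lit 1,nat_lit 1,nat_lit 1])
))

noncomputable def t110_subs : LT :=
(.leaf [nat_lit 0,nat_lit 0,nat_lit 0,nat_lit 7])


noncomputable def t110 : TC :=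
  ⟨fun x c => Nat.shiftRight (BT.get t110_t x) (Nat.mul (nat_lit 17) c),
  (nat_lit 3), (nat_lit 7), (nat_lit 4095), (nat_lit 12), (nat_lit 31), (nat_lit 4088), (nat_lit 2), (nat_lit 2), (nat_lit 7), (nat_lit 5), (nat_lit 7), (nat_lit 8), t110_inv, t110_rules, t110_subs⟩

theorem t110_c1 : t110.rules.all (ruleOK t110.m t110.inv t110_rels) = true := by decide +kernel
theorem t110_c2 : t110.subs.all (subOK t110.m t110.inv t110_hws) = true := by decide +kernel
theorem t110_c3 : t110.base = true := by decide +kernel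

theorem t110_s0 : t110.slots (nat_lit 0) (nat_lit 2) = true := by decide +kernel

theorem t110_c4 : t110.Upto t110.N := ((TC.upto_zero t110).step _ t110_s0)
theorem t110_c5 : t110.UptoE t110.N := (TC.uptoE_n t110)
theorem t110_bound {G : Type*} [Group G] {g : ℕ → G} {H : Subgroup G} (hinv : ∀ x < 7, g x * g (t110_inv x) = 1)
    (hrels : ∀ i, evalW g (t110_rels.get i) = 1) (hH : ∀ x < 5, g x ∈ H) (hhws : ∀ i, evalW g (t110_hws.get i) ∈ H) :
    H.relIndex (genLt g 7) ≠ 0 ∧ H.relIndex (genLt g 7) ≤ 2 :=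
  TC.relIndex_le (T := t110) hinv hrels hH hhws t110_c1 t110_c2 t110_c3 t110_c4 t110_c5

theorem t110_bd : Bound.{u} r110 5 7 2 := fun _ _ _ _ hs hH =>
  t110_bound (hs.hinv (by decide +kernel)) (hs.tree (by decide +kernel)) hH (leaf_nil_mem' _ _ (by decide +kernel))

theorem pres110 : Pres.{u} r110 7 64 := presN1.step t110_bd (by decide +kernel)

noncomputable def c110 : List ℕ := [(nat_lit 0x807060d020e0f04030b0c0a09000501), (nat_lit 0x90a0c050604030f0e0d0108070b0002), (nat_lit 0xf0e0d020b090a0708010504030c0600), (nat_lit 0x50b040a0f020c0106080e000d090703), (nat_lit 0xb0503090e0c020601070f0d000a0804), (nat_lit 0xb0503070e01060c020a0f0d00080904), (nat_lit 0x50b04080f0601020c090e000d070a03)]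

theorem c110_ok : allL c110 (permOK 16) = true := by decide +kernel

noncomputable def P110_t : ST :=
(.node (nat_lit 0x8070600020f0e0304050c0a090d0b01) (.node (nat_lit 0x4030b01000807090a0c0d0e0f060205) (.node (nat_lit 0x20c090307050b0d000e080601040f0a) (.node (nat_lit 0x106080309050b0d000e0a020c040f07) (.node (nat_lit 0xd0f09030c02060107040b050a080e) (.node (nat_lit 0xd0f08030601020c09040b05070a0e) (.leaf (nat_lit 0xd0f070301060c020a040b0508090e) (nat_lit 1027))
 (.leaf (nat_lit 0xd0f08030601020c09040b05070a0e) (nat_lit 771))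
) (.node (nat_lit 0xd0f0a03020c010608040b0509070e) (.leaf (nat_lit 0xd0f09030c02060107040b050a080e) (nat_lit 774))
 (.leaf (nat_lit 0xd0f0a03020c010608040b0509070e) (nat_lit 768))
)) (.node (nat_lit 0x106080e09000d050b040a020c0f0307) (.node (nat_lit 0x1060804090b05000d0f0a020c030e07) (.leaf (nat_lit 0x106080309050b0d000e0a020c040f07) (nat_lit 772))
 (.leaf (nat_lit 0x1060804090b05000d0f0a020c030e07) (nat_lit 515))
) (.node (nat_lit 0x106080f090d000b05030a020c0e0407) (.leaf (nat_lit 0x106080e09000d050b040a020c0f0307) (nat_lit 518))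
 (.leaf (nat_lit 0x106080f090d000b05030a020c0e0407) (nat_lit 513))
))) (.node (nat_lit 0x30405010d0807090a0c000f0e06020b) (.node (nat_lit 0x20c090e07000d050b040806010f030a) (.node (nat_lit 0x20c0904070b05000d0f080601030e0a) (.leaf (nat_lit 0x20c090307050b0d000e080601040f0a) (nat_lit 512))
 (.leaf (nat_lit 0x20c0904070b05000d0f080601030e0a) (nat_lit 518))
) (.node (nat_lit 0x20c090f070d000b05030806010e040a) (.leaf (nat_lit 0x20c090e07000d050b040806010f030a) (nat_lit 771))
 (.leaf (nat_lit 0x20c090f070d000b05030806010e040a) (nat_lit 516))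
)) (.node (nat_lit 0x30405060d07080a0902000f0e010c0b) (.node (nat_lit 0x30405020d090a070801000f0e0c060b) (.leaf (nat_lit 0x30405010d0807090a0c000f0e06020b) (nat_lit 513))
 (.leaf (nat_lit 0x30405020d090a070801000f0e0c060b) (nat_lit 1030))
) (.node (nat_lit 0x304050c0d0a09080706000f0e02010b) (.leaf (nat_lit 0x30405060d07080a0902000f0e010c0b) (nat_lit 768))
 (.leaf (nat_lit 0x304050c0d0a09080706000f0e02010b) (nat_lit 1028))
)))) (.node (nat_lit 0x60107030a050b0d000e090c02040f08) (.node (nat_lit 0x50b04070f01060c020a0e000d080903) (.node (nat_lit 0x4030b060007080a09020d0e0f010c05) (.node (nat_lit 0x4030b0200090a0708010d0e0f0c0605) (.leaf (nat_lit 0x4030b01000807090a0c0d0e0f060205) (nat_lit 770))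
 (.leaf (nat_lit 0x4030b0200090a0708010d0e0f0c0605) (nat_lit 1027))
) (.node (nat_lit 0x4030b0c000a090807060d0e0f020105) (.leaf (nat_lit 0x4030b060007080a09020d0e0f010c05) (nat_lit 512))
 (.leaf (nat_lit 0x4030b0c000a090807060d0e0f020105) (nat_lit 1029))
)) (.node (nat_lit 0x50b04090f0c020601070e000d0a0803) (.node (nat_lit 0x50b04080f0601020c090e000d070a03) (.leaf (nat_lit 0x50b04070f01060c020a0e000d080903) (nat_lit 518))
 (.leaf (nat_lit 0x50b04080f0601020c090e000d070a03) (nat_lit 262))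
) (.node (nat_lit 0x50b040a0f020c0106080e000d090703) (.leaf (nat_lit 0x50b04090f0c020601070e000d0a0803) (nat_lit 515))
 (.leaf (nat_lit 0x50b040a0f020c0106080e000d090703) (nat_lit 259))
))) (.node (nat_lit 0x70801000c0f0e03040502090a0d0b06) (.node (nat_lit 0x601070e0a000d050b04090c020f0308) (.node (nat_lit 0x60107040a0b05000d0f090c02030e08) (.leaf (nat_lit 0x60107030a050b0d000e090c02040f08) (nat_lit 516))
 (.leaf (nat_lit 0x60107040a0b05000d0f090c02030e08) (nat_lit 771))
) (.node (nat_lit 0x601070f0a0d000b0503090c020e0408) (.leaf (nat_lit 0x601070e0a000d050b04090c020f0308) (nat_lit 513))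
 (.leaf (nat_lit 0x601070f0a0d000b0503090c020e0408) (nat_lit 517))
)) (.node (nat_lit 0x708010b0c03040e0f0002090a050d06) (.node (nat_lit 0x70801050c04030f0e0d02090a0b0006) (.leaf (nat_lit 0x70801000c0f0e03040502090a0d0b06) (nat_lit 771))
 (.leaf (nat_lit 0x70801050c04030f0e0d02090a0b0006) (nat_lit 773))
) (.node (nat_lit 0x708010d0c0e0f04030b02090a000506) (.leaf (nat_lit 0x708010b0c03040e0f0002090a050d06) (nat_lit 772))
 (.leaf (nat_lit 0x708010d0c0e0f04030b02090a000506) (nat_lit 514))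
))))) (.node (nat_lit 0xc020a0308050b0d000e070106040f09) (.node (nat_lit 0xa090200010f0e0304050607080d0b0c) (.node (nat_lit 0x90a0c00060f0e0304050108070d0b02) (.node (nat_lit 0x807060b0203040e0f000c0a09050d01) (.node (nat_lit 0x80706050204030f0e0d0c0a090b0001) (.leaf (nat_lit 0x8070600020f0e0304050c0a090d0b01) (nat_lit 512))
 (.leaf (nat_lit 0x80706050204030f0e0d0c0a090b0001) (nat_lit 771))
) (.node (nat_lit 0x807060d020e0f04030b0c0a09000501) (.leaf (nat_lit 0x807060b0203040e0f000c0a09050d01) (nat_lit 774))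
 (.leaf (nat_lit 0x807060d020e0f04030b0c0a09000501) (nat_lit 256))
)) (.node (nat_lit 0x90a0c0b0603040e0f00010807050d02) (.node (nat_lit 0x90a0c050604030f0e0d0108070b0002) (.leaf (nat_lit 0x90a0c00060f0e0304050108070d0b02) (nat_lit 772))
 (.leaf (nat_lit 0x90a0c050604030f0e0d0108070b0002) (nat_lit 257))
) (.node (nat_lit 0x90a0c0d060e0f04030b010807000502) (.leaf (nat_lit 0x90a0c0b0603040e0f00010807050d02) (nat_lit 513))
 (.leaf (nat_lit 0x90a0c0d060e0f04030b010807000502) (nat_lit 773))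
))) (.node (nat_lit 0xb0503070e01060c020a0f0d00080904) (.node (nat_lit 0xa09020b0103040e0f00060708050d0c) (.node (nat_lit 0xa0902050104030f0e0d0607080b000c) (.leaf (nat_lit 0xa090200010f0e0304050607080d0b0c) (nat_lit 774))
 (.leaf (nat_lit 0xa0902050104030f0e0d0607080b000c) (nat_lit 514))
) (.node (nat_lit 0xa09020d010e0f04030b06070800050c) (.leaf (nat_lit 0xa09020b0103040e0f00060708050d0c) (nat_lit 768))
 (.leaf (nat_lit 0xa09020d010e0f04030b06070800050c) (nat_lit 771))
)) (.node (nat_lit 0xb0503090e0c020601070f0d000a0804) (.node (nat_lit 0xb0503080e0601020c090f0d00070a04) (.leaf (nat_lit 0xb0503070e01060c020a0f0d00080904) (nat_lit 261))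
 (.leaf (nat_lit 0xb0503080e0601020c090f0d00070a04) (nat_lit 517))
) (.node (nat_lit 0xb05030a0e020c0106080f0d00090704) (.leaf (nat_lit 0xb0503090e0c020601070f0d000a0804) (nat_lit 260))
 (.leaf (nat_lit 0xb05030a0e020c0106080f0d00090704) (nat_lit 516))
)))) (.node (nat_lit 0xe0f0001050807090a0c0b030406020d) (.node (nat_lit 0xd000e070401060c020a03050b08090f) (.node (nat_lit 0xc020a0e08000d050b040701060f0309) (.node (nat_lit 0xc020a04080b05000d0f070106030e09) (.leaf (nat_lit 0xc020a0308050b0d000e070106040f09) (nat_lit 517))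
 (.leaf (nat_lit 0xc020a04080b05000d0f070106030e09) (nat_lit 512))
) (.node (nat_lit 0xc020a0f080d000b05030701060e0409) (.leaf (nat_lit 0xc020a0e08000d050b040701060f0309) (nat_lit 515))
 (.leaf (nat_lit 0xc020a0f080d000b05030701060e0409) (nat_lit 772))
)) (.node (nat_lit 0xd000e09040c0206010703050b0a080f) (.node (nat_lit 0xd000e08040601020c0903050b070a0f) (.leaf (nat_lit 0xd000e070401060c020a03050b08090f) (nat_lit 772))
 (.leaf (nat_lit 0xd000e08040601020c0903050b070a0f) (nat_lit 1028))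
) (.node (nat_lit 0xd000e0a04020c01060803050b09070f) (.leaf (nat_lit 0xd000e09040c0206010703050b0a080f) (nat_lit 768))
 (.leaf (nat_lit 0xd000e0a04020c01060803050b09070f) (nat_lit 773))
))) (.node (nat_lit 0xf0e0d010b0807090a0c050403060200) (.node (nat_lit 0xe0f00060507080a09020b0304010c0d) (.node (nat_lit 0xe0f000205090a0708010b03040c060d) (.leaf (nat_lit 0xe0f0001050807090a0c0b030406020d) (nat_lit 516))
 (.leaf (nat_lit 0xe0f000205090a0708010b03040c060d) (nat_lit 515))
) (.node (nat_lit 0xe0f000c050a090807060b030402010d) (.leaf (nat_lit 0xe0f00060507080a09020b0304010c0d) (nat_lit 518))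
 (.leaf (nat_lit 0xe0f000c050a090807060b030402010d) (nat_lit 769))
)) (.node (nat_lit 0xf0e0d060b07080a0902050403010c00) (.node (nat_lit 0xf0e0d020b090a0708010504030c0600) (.leaf (nat_lit 0xf0e0d010b0807090a0c050403060200) (nat_lit 517))
 (.leaf (nat_lit 0xf0e0d020b090a0708010504030c0600) (nat_lit 258))
) (.node (nat_lit 0xf0e0d0c0b0a09080706050403020100) (.leaf (nat_lit 0xf0e0d060b07080a0902050403010c00) (nat_lit 515))
 (.leaf (nat_lit 0xf0e0d0c0b0a09080706050403020100) (nat_lit 0))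
))))))

theorem P110_ok : genOK A16 [(nat_lit 0x807060d020e0f04030b0c0a09000501), (nat_lit 0x90a0c050604030f0e0d0108070b0002), (nat_lit 0xf0e0d020b090a0708010504030c0600), (nat_lit 0x50b040a0f020c0106080e000d090703), (nat_lit 0xb0503090e0c020601070f0d000a0804), (nat_lit 0xb0503070e01060c020a0f0d00080904), (nat_lit 0x50b04080f0601020c090e000d070a03)] P110_t (nat_lit 64) = true := by decide +kernel

def r111 : List (List ℕ) := rN1 ++ (rG ++ (eB1 ++ eC1))

noncomputable def t111_rels : LT :=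
(.node (.node (.node (.node (.node (.leaf [])
 (.leaf [nat_lit 3,nat_lit 5,nat_lit 3,nat_lit 5,nat_lit 1,nat_lit 1,nat_lit 2])
) (.leaf [nat_lit 0,nat_lit 0,nat_lit 0,nat_lit 0,nat_lit 0,nat_lit 0,nat_lit 0,nat_lit 0])
) (.node (.leaf [nat_lit 3,nat_lit 4])
 (.leaf [nat_lit 3,nat_lit 3,nat_lit 0,nat_lit 0,nat_lit 0,nat_lit 0])
)) (.node (.node (.leaf [nat_lit 1,nat_lit 0])
 (.leaf [nat_lit 3,nat_lit 0,nat_lit 4,nat_lit 0])
) (.node (.leaf [nat_lit 5,nat_lit 6])
 (.leaf [nat_lit 5,nat_lit 2,nat_lit 6,nat_lit 2])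
))) (.node (.node (.node (.leaf [nat_lit 0,nat_lit 1])
 (.leaf [nat_lit 2,nat_lit 0,nat_lit 2,nat_lit 0,nat_lit 0,nat_lit 0])
) (.node (.leaf [nat_lit 4,nat_lit 3])
 (.leaf [nat_lit 5,nat_lit 0,nat_lit 6,nat_lit 1,nat_lit 2])
)) (.node (.node (.leaf [nat_lit 2,nat_lit 2])
 (.leaf [nat_lit 3,nat_lit 2,nat_lit 4,nat_lit 2])
) (.node (.leaf [nat_lit 6,nat_lit 5])
 (.leaf [nat_lit 5,nat_lit 5,nat_lit 0,nat_lit 0,nat_lit 0,nat_lit 0])
))))
noncomputable def t111_hws : LT :=
(.leaf [])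

noncomputable def t111_inv : ℕ → ℕ := getP (nat_lit 8) (nat_lit 255) (nat_lit 0x5060304020001)

noncomputable def t111_t : BT :=
(.node (.node (.node (.node (.leaf (nat_lit 0x20827000))
 (.leaf (nat_lit 0x10500000))
) (.leaf (nat_lit 0xd27020))
) (.node (.leaf (nat_lit 0x120727010))
 (.leaf (nat_lit 0x600059))
)) (.node (.node (.leaf (nat_lit 0x927008))
 (.leaf (nat_lit 0x320a02029))
) (.node (.leaf (nat_lit 0x220c27018))
 (.leaf (nat_lit 0x1ff00ff8))
)))

noncomputable def t111_rules : LT :=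
(.node (.node (.leaf [nat_lit 13,nat_lit 3,nat_lit 1,nat_lit 0,nat_lit 6,nat_lit 2,nat_lit 0,nat_lit 5])
 (.leaf [nat_lit 16,nat_lit 4,nat_lit 1,nat_lit 3,nat_lit 6,nat_lit 4,nat_lit 2,nat_lit 0,nat_lit 0,nat_lit 6])
) (.node (.leaf [nat_lit 14,nat_lit 2,nat_lit 1,nat_lit 2,nat_lit 6,nat_lit 2,nat_lit 5])
 (.leaf [nat_lit 15,nat_lit 4,nat_lit 1,nat_lit 5,nat_lit 6,nat_lit 1,nat_lit 1,nat_lit 1,nat_lit 1])
))

noncomputable def t111_subs : LT :=
(.leaf [nat_lit 0,nat_lit 0,nat_lit 0,nat_lit 7])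


noncomputable def t111 : TC :=
  ⟨fun x c => Nat.shiftRight (BT.get t111_t x) (Nat.mul (nat_lit 17) c),
  (nat_lit 3), (nat_lit 7), (nat_lit 4095), (nat_lit 12), (nat_lit 31), (nat_lit 4088), (nat_lit 2), (nat_lit 2), (nat_lit 7), (nat_lit 5), (nat_lit 7), (nat_lit 8), t111_inv, t111_rules, t111_subs⟩

theorem t111_c1 : t111.rules.all (ruleOK t111.m t111.inv t111_rels) = true := by decide +kernel
theorem t111_c2 : t111.subs.all (subOK t111.m t111.inv t111_hws) = true := by decide +kernel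
theorem t111_c3 : t111.base = true := by decide +kernel

theorem t111_s0 : t111.slots (nat_lit 0) (nat_lit 2) = true := by decide +kernel

theorem t111_c4 : t111.Upto t111.N := ((TC.upto_zero t111).step _ t111_s0)
theorem t111_c5 : t111.UptoE t111.N := (TC.uptoE_n t111)
theorem t111_bound {G : Type*} [Group G] {g : ℕ → G} {H : Subgroup G} (hinv : ∀ x < 7, g x * g (t111_inv x) = 1)
    (hrels : ∀ i, evalW g (t111_rels.get i) = 1) (hH : ∀ x < 5, g x ∈ H) (hhws : ∀ i, evalW g (t111_hws.get i) ∈ H) :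
    H.relIndex (genLt g 7) ≠ 0 ∧ H.relIndex (genLt g 7) ≤ 2 :=
  TC.relIndex_le (T := t111) hinv hrels hH hhws t111_c1 t111_c2 t111_c3 t111_c4 t111_c5

theorem t111_bd : Bound.{u} r111 5 7 2 := fun _ _ _ _ hs hH =>
  t111_bound (hs.hinv (by decide +kernel)) (hs.tree (by decide +kernel)) hH (leaf_nil_mem' _ _ (by decide +kernel))

theorem pres111 : Pres.{u} r111 7 64 := presN1.step t111_bd (by decide +kernel)

noncomputable def c111 : List ℕ := [(nat_lit 0x1617151412110a091c1d1e1f080605181913021b1a04030d0e0b0c100f000701), (nat_lit 0x141516170c0b0f101e1f1d1c0e1b1a0403070805061918130112110a090d0002), (nat_lit 0x1e1f1c1d1b1a1918171615141311120f10020d0b0c090a0107060504030e0800), (nat_lit 0xb0c12111415070d05061b1a041c1d020e10191f1e01080a18171600130f0903), (nat_lit 0xc0b111215140d0706051a1b031d1c0e020f181e1f0801091916171300100a04), (nat_lit 0xf10090a070d17161819030406020e1f1e121b01081d1c0c1a00131514110b05), (nat_lit 0x100f0a090d07161719180403050e021e1f111a08011c1d0b1b13001415120c06)]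

theorem c111_ok : allL c111 (permOK 32) = true := by decide +kernel

noncomputable def P111_t : ST :=
(.node (nat_lit 0x100f0a09070d171618190304060e021e1f111b08011c1d0b1a00131514120c05) (.node (nat_lit 0x801020e03041b1a00130d07140a0911121f160f100b0c1d17191806051e1c15) (.node (nat_lit 0x403191801081e1f100f090a12070d15141a0c13001716060b020e1d1c1b0511) (.node (nat_lit 0x20e0108181905060d07130017100f0c0b1d140a0911121e1503041b1a1c1f16) (.node (nat_lit 0x1080e0203041b1a00130d0714090a12111e16100f0c0b1c17191806051f1d15) (.node (nat_lit 0x13070d0a090b0c0e0201081d18191b1a151e04030506171f100f111214161c) (.leaf (nat_lit 0x13070d090a0c0b020e08011c18191b1a151f04030506171e0f10121114161d) (nat_lit 771))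
 (.leaf (nat_lit 0x13070d0a090b0c0e0201081d18191b1a151e04030506171f100f111214161c) (nat_lit 773))
) (.node (nat_lit 0x1080e0204031a1b1300070d15090a12111e17100f0c0b1c16181905061f1d14) (.leaf (nat_lit 0x1080e0203041b1a00130d0714090a12111e16100f0c0b1c17191806051f1d15) (nat_lit 518))
 (.leaf (nat_lit 0x1080e0204031a1b1300070d15090a12111e17100f0c0b1c16181905061f1d14) (nat_lit 773))
)) (.node (nat_lit 0x304181901081e1f100f090a120d0714151b0c00131617050b020e1d1c1a0611) (.node (nat_lit 0x20e010819180605070d001316100f0c0b1d150a0911121e1404031a1b1c1f17) (.leaf (nat_lit 0x20e0108181905060d07130017100f0c0b1d140a0911121e1503041b1a1c1f16) (nat_lit 771))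
 (.leaf (nat_lit 0x20e010819180605070d001316100f0c0b1d150a0911121e1404031a1b1c1f17) (nat_lit 516))
) (.node (nat_lit 0x304181908011f1e0f100a09110d0714151b0b00131617050c0e021c1d1a0612) (.leaf (nat_lit 0x304181901081e1f100f090a120d0714151b0c00131617050b020e1d1c1a0611) (nat_lit 513))
 (.leaf (nat_lit 0x304181908011f1e0f100a09110d0714151b0b00131617050c0e021c1d1a0612) (nat_lit 518))
))) (.node (nat_lit 0x6051b1a1c1d010811120c0b0a17160d07040f1415001319101e1f020e031809) (.node (nat_lit 0x5061a1b1c1d010811120c0b0a1617070d030f1514130018101e1f020e041909) (.node (nat_lit 0x403191808011f1e0f100a0911070d15141a0b13001716060c0e021c1d1b0512) (.leaf (nat_lit 0x403191801081e1f100f090a12070d15141a0c13001716060b020e1d1c1b0511) (nat_lit 517))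
 (.leaf (nat_lit 0x403191808011f1e0f100a0911070d15141a0b13001716060c0e021c1d1b0512) (nat_lit 513))
) (.node (nat_lit 0x5061a1b1d1c080112110b0c091617070d031015141300180f1f1e0e0204190a) (.leaf (nat_lit 0x5061a1b1c1d010811120c0b0a1617070d030f1514130018101e1f020e041909) (nat_lit 772))
 (.leaf (nat_lit 0x5061a1b1d1c080112110b0c091617070d031015141300180f1f1e0e0204190a) (nat_lit 516))
)) (.node (nat_lit 0x70d13000f1012110108020e1f03040605171d18191b1a141c0a090b0c16151e) (.node (nat_lit 0x6051b1a1d1c080112110b0c0917160d07041014150013190f1f1e0e0203180a) (.leaf (nat_lit 0x6051b1a1c1d010811120c0b0a17160d07040f1415001319101e1f020e031809) (nat_lit 515))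
 (.leaf (nat_lit 0x6051b1a1d1c080112110b0c0917160d07041014150013190f1f1e0e0203180a) (nat_lit 771))
) (.node (nat_lit 0x70d1300100f111208010e021e03040605171c18191b1a141d090a0c0b16151f) (.leaf (nat_lit 0x70d13000f1012110108020e1f03040605171d18191b1a141c0a090b0c16151e) (nat_lit 771))
 (.leaf (nat_lit 0x70d1300100f111208010e021e03040605171c18191b1a141d090a0c0b16151f) (nat_lit 774))
)))) (.node (nat_lit 0xc0b11121415070d05061b1a041d1c0e020f191e1f0801091817160013100a03) (.node (nat_lit 0xa090f1000131514040318191b01081d1c0b050e021e1f12060d0716170c111a) (.node (nat_lit 0x90a100f00131514040318191b08011c1d0c05020e1f1e11060d0716170b121a) (.node (nat_lit 0x801020e04031a1b1300070d150a0911121f170f100b0c1d16181905061e1c14) (.leaf (nat_lit 0x801020e03041b1a00130d07140a0911121f160f100b0c1d17191806051e1c15) (nat_lit 774))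
 (.leaf (nat_lit 0x801020e04031a1b1300070d150a0911121f170f100b0c1d16181905061e1c14) (nat_lit 517))
) (.node (nat_lit 0x90a100f13001415030419181a08011c1d0c06020e1f1e1105070d17160b121b) (.leaf (nat_lit 0x90a100f00131514040318191b08011c1d0c05020e1f1e11060d0716170b121a) (nat_lit 773))
 (.leaf (nat_lit 0x90a100f13001415030419181a08011c1d0c06020e1f1e1105070d17160b121b) (nat_lit 768))
)) (.node (nat_lit 0xb0c12111415070d05061b1a041c1d020e10191f1e01080a18171600130f0903) (.node (nat_lit 0xa090f1013001415030419181a01081d1c0b060e021e1f1205070d17160c111b) (.leaf (nat_lit 0xa090f1000131514040318191b01081d1c0b050e021e1f12060d0716170c111a) (nat_lit 768))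
 (.leaf (nat_lit 0xa090f1013001415030419181a01081d1c0b060e021e1f1205070d17160c111b) (nat_lit 774))
) (.node (nat_lit 0xb0c121115140d0706051a1b031c1d020e10181f1e01080a19161713000f0904) (.leaf (nat_lit 0xb0c12111415070d05061b1a041c1d020e10191f1e01080a18171600130f0903) (nat_lit 259))
 (.leaf (nat_lit 0xb0c121115140d0706051a1b031c1d020e10181f1e01080a19161713000f0904) (nat_lit 516))
))) (.node (nat_lit 0xe020801181905060d071300170f100b0c1c14090a12111f1503041b1a1d1e16) (.node (nat_lit 0xd0700130f1012110108020e1f04030506161d19181a1b151c0a090b0c17141e) (.node (nat_lit 0xc0b111215140d0706051a1b031d1c0e020f181e1f0801091916171300100a04) (.leaf (nat_lit 0xc0b11121415070d05061b1a041d1c0e020f191e1f0801091817160013100a03) (nat_lit 515))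
 (.leaf (nat_lit 0xc0b111215140d0706051a1b031d1c0e020f181e1f0801091916171300100a04) (nat_lit 260))
) (.node (nat_lit 0xd070013100f111208010e021e04030506161c19181a1b151d090a0c0b17141f) (.leaf (nat_lit 0xd0700130f1012110108020e1f04030506161d19181a1b151c0a090b0c17141e) (nat_lit 773))
 (.leaf (nat_lit 0xd070013100f111208010e021e04030506161c19181a1b151d090a0c0b17141f) (nat_lit 772))
)) (.node (nat_lit 0xf10090a070d17161819030406020e1f1e121b01081d1c0c1a00131514110b05) (.node (nat_lit 0xe02080119180605070d0013160f100b0c1c15090a12111f1404031a1b1d1e17) (.leaf (nat_lit 0xe020801181905060d071300170f100b0c1c14090a12111f1503041b1a1d1e16) (nat_lit 515))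
 (.leaf (nat_lit 0xe02080119180605070d0013160f100b0c1c15090a12111f1404031a1b1d1e17) (nat_lit 772))
) (.node (nat_lit 0xf10090a0d0716171918040305020e1f1e121a01081d1c0c1b13001415110b06) (.leaf (nat_lit 0xf10090a070d17161819030406020e1f1e121b01081d1c0c1a00131514110b05) (nat_lit 261))
 (.leaf (nat_lit 0xf10090a0d0716171918040305020e1f1e121a01081d1c0c1b13001415110b06) (nat_lit 518))
))))) (.node (nat_lit 0x18190403020e1d1c0a09100f0c1300171605110d0714151a1208011f1e061b0b) (.node (nat_lit 0x141516170b0c100f1f1e1c1d021b1a040307010506191813081112090a0d000e) (.node (nat_lit 0x12110c0b161713001b1a0605181e1f08010a041c1d020e0f031415070d091019) (.node (nat_lit 0x11120b0c161713001b1a0605181f1e010809041d1c0e0210031415070d0a0f19) (.node (nat_lit 0x100f0a090d07161719180403050e021e1f111a08011c1d0b1b13001415120c06) (.leaf (nat_lit 0x100f0a09070d171618190304060e021e1f111b08011c1d0b1a00131514120c05) (nat_lit 517))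
 (.leaf (nat_lit 0x100f0a090d07161719180403050e021e1f111a08011c1d0b1b13001415120c06) (nat_lit 262))
) (.node (nat_lit 0x11120b0c171600131a1b0506191f1e010809031d1c0e02100415140d070a0f18) (.leaf (nat_lit 0x11120b0c161713001b1a0605181f1e010809041d1c0e0210031415070d0a0f19) (nat_lit 772))
 (.leaf (nat_lit 0x11120b0c171600131a1b0506191f1e010809031d1c0e02100415140d070a0f18) (nat_lit 774))
)) (.node (nat_lit 0x13000d07090a0c0b020e08011c19181a1b141f03040605161e0f10121115171d) (.node (nat_lit 0x12110c0b171600131a1b0506191e1f08010a031c1d020e0f0415140d07091018) (.leaf (nat_lit 0x12110c0b161713001b1a0605181e1f08010a041c1d020e0f031415070d091019) (nat_lit 773))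
 (.leaf (nat_lit 0x12110c0b171600131a1b0506191e1f08010a031c1d020e0f0415140d07091018) (nat_lit 771))
) (.node (nat_lit 0x13000d070a090b0c0e0201081d19181a1b141e03040605161f100f111215171c) (.leaf (nat_lit 0x13000d07090a0c0b020e08011c19181a1b141f03040605161e0f10121115171d) (nat_lit 774))
 (.leaf (nat_lit 0x13000d070a090b0c0e0201081d19181a1b141e03040605161f100f111215171c) (nat_lit 772))
))) (.node (nat_lit 0x161715141112090a1d1c1f1e0106051819130e1b1a04030d020c0b0f10000708) (.node (nat_lit 0x151417160b0c100f1f1e1c1d021a1b03040d010605181900081112090a07130e) (.node (nat_lit 0x141516170c0b0f101e1f1d1c0e1b1a0403070805061918130112110a090d0002) (.leaf (nat_lit 0x141516170b0c100f1f1e1c1d021b1a040307010506191813081112090a0d000e) (nat_lit 514))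
 (.leaf (nat_lit 0x141516170c0b0f101e1f1d1c0e1b1a0403070805061918130112110a090d0002) (nat_lit 257))
) (.node (nat_lit 0x151417160c0b0f101e1f1d1c0e1a1b03040d0806051819000112110a09071302) (.leaf (nat_lit 0x151417160b0c100f1f1e1c1d021a1b03040d010605181900081112090a07130e) (nat_lit 768))
 (.leaf (nat_lit 0x151417160c0b0f101e1f1d1c0e1a1b03040d0806051819000112110a09071302) (nat_lit 513))
)) (.node (nat_lit 0x171614151112090a1d1c1f1e0105061918000e1a1b030407020c0b0f10130d08) (.node (nat_lit 0x1617151412110a091c1d1e1f080605181913021b1a04030d0e0b0c100f000701) (.leaf (nat_lit 0x161715141112090a1d1c1f1e0106051819130e1b1a04030d020c0b0f10000708) (nat_lit 514))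
 (.leaf (nat_lit 0x1617151412110a091c1d1e1f080605181913021b1a04030d0e0b0c100f000701) (nat_lit 256))
) (.node (nat_lit 0x1716141512110a091c1d1e1f080506191800021a1b0304070e0b0c100f130d01) (.leaf (nat_lit 0x171614151112090a1d1c1f1e0105061918000e1a1b030407020c0b0f10130d08) (nat_lit 771))
 (.leaf (nat_lit 0x1716141512110a091c1d1e1f080506191800021a1b0304070e0b0c100f130d01) (nat_lit 512))
)))) (.node (nat_lit 0x1c1d1f1e0506030415141617070c0b0a09011311120f100e001b1a191808020d) (.node (nat_lit 0x1a1b06051e1f020e0b0c11120f1415001318091617070d040a1d1c0801190310) (.node (nat_lit 0x19180304020e1d1c0a09100f0c001316170611070d15141b1208011f1e051a0b) (.node (nat_lit 0x181904030e021c1d090a0f100b1300171605120d0714151a1101081e1f061b0c) (.leaf (nat_lit 0x18190403020e1d1c0a09100f0c1300171605110d0714151a1208011f1e061b0b) (nat_lit 512))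
 (.leaf (nat_lit 0x181904030e021c1d090a0f100b1300171605120d0714151a1101081e1f061b0c) (nat_lit 518))
) (.node (nat_lit 0x191803040e021c1d090a0f100b001316170612070d15141b1101081e1f051a0c) (.leaf (nat_lit 0x19180304020e1d1c0a09100f0c001316170611070d15141b1208011f1e051a0b) (nat_lit 517))
 (.leaf (nat_lit 0x191803040e021c1d090a0f100b001316170612070d15141b1101081e1f051a0c) (nat_lit 512))
)) (.node (nat_lit 0x1b1a05061e1f020e0b0c11120f15141300190917160d07030a1d1c0801180410) (.node (nat_lit 0x1a1b06051f1e0e020c0b12111014150013180a1617070d04091c1d010819030f) (.leaf (nat_lit 0x1a1b06051e1f020e0b0c11120f1415001318091617070d040a1d1c0801190310) (nat_lit 771))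
 (.leaf (nat_lit 0x1a1b06051f1e0e020c0b12111014150013180a1617070d04091c1d010819030f) (nat_lit 515))
) (.node (nat_lit 0x1b1a05061f1e0e020c0b12111015141300190a17160d0703091c1d010818040f) (.leaf (nat_lit 0x1b1a05061e1f020e0b0c11120f15141300190917160d07030a1d1c0801180410) (nat_lit 516))
 (.leaf (nat_lit 0x1b1a05061f1e0e020c0b12111015141300190a17160d0703091c1d010818040f) (nat_lit 772))
))) (.node (nat_lit 0x1e1f1c1d1a1b1819161714150011120f1002070b0c090a010d050603040e0813) (.node (nat_lit 0x1d1c1e1f0506030415141617070b0c090a08131211100f02001b1a1918010e0d) (.node (nat_lit 0x1c1d1f1e06050403141517160d0c0b0a09010011120f100e131a1b1819080207) (.leaf (nat_lit 0x1c1d1f1e0506030415141617070c0b0a09011311120f100e001b1a191808020d) (nat_lit 513))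
 (.leaf (nat_lit 0x1c1d1f1e06050403141517160d0c0b0a09010011120f100e131a1b1819080207) (nat_lit 770))
) (.node (nat_lit 0x1d1c1e1f06050403141517160d0b0c090a08001211100f02131a1b1819010e07) (.leaf (nat_lit 0x1d1c1e1f0506030415141617070b0c090a08131211100f02001b1a1918010e0d) (nat_lit 768))
 (.leaf (nat_lit 0x1d1c1e1f06050403141517160d0b0c090a08001211100f02131a1b1819010e07) (nat_lit 512))
)) (.node (nat_lit 0x1f1e1d1c1a1b181916171415001211100f0e070c0b0a09080d05060304020113) (.node (nat_lit 0x1e1f1c1d1b1a1918171615141311120f10020d0b0c090a0107060504030e0800) (.leaf (nat_lit 0x1e1f1c1d1a1b1819161714150011120f1002070b0c090a010d050603040e0813) (nat_lit 515))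
 (.leaf (nat_lit 0x1e1f1c1d1b1a1918171615141311120f10020d0b0c090a0107060504030e0800) (nat_lit 258))
) (.node (nat_lit 0x1f1e1d1c1b1a191817161514131211100f0e0d0c0b0a09080706050403020100) (.leaf (nat_lit 0x1f1e1d1c1a1b181916171415001211100f0e070c0b0a09080d05060304020113) (nat_lit 769))
 (.leaf (nat_lit 0x1f1e1d1c1b1a191817161514131211100f0e0d0c0b0a09080706050403020100) (nat_lit 0))
))))))

theorem P111_ok : genOK A32 [(nat_lit 0x1617151412110a091c1d1e1f080605181913021b1a04030d0e0b0c100f000701), (nat_lit 0x141516170c0b0f101e1f1d1c0e1b1a0403070805061918130112110a090d0002), (nat_lit 0x1e1f1c1d1b1a1918171615141311120f10020d0b0c090a0107060504030e0800), (nat_lit 0xb0c12111415070d05061b1a041c1d020e10191f1e01080a18171600130f0903), (nat_lit 0xc0b111215140d0706051a1b031d1c0e020f181e1f0801091916171300100a04), (nat_lit 0xf10090a070d17161819030406020e1f1e121b01081d1c0c1a00131514110b05), (nat_lit 0x100f0a090d07161719180403050e021e1f111a08011c1d0b1b13001415120c06)] P111_t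 (nat_lit 64) = true := by decide +kernel

end Cfsg.Agent.G2T.O64
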